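import Mathlib
import Groth.Agent.Lib.Helper1.TorL

set_option autoImplicit false
universe u
open CategoryTheory Limits MonoidalCategory

namespace Groth.Agent.Helper5.FlatAcyc
open Groth.Agent.Helper1.TorL

variable {R : Type u} [CommRing R]

/-- kernel of a surjection of flat modules is flat (categorical form) -/
theorem flat_X₁ (S : ShortComplex (ModuleCat.{u} R)) (hS : S.ShortExact)
    [Module.Flat R S.X₂] [Module.Flat R S.X₃] : Module.Flat R S.X₁ := by
  rw [flat_iff_tor_one_quotient]
  intro I _
  exact isZero_tor_X₁ S hS _ 1 (isZero_tor_succ_of_flat _ _ 1) (isZero_tor_succ_of_flat _ _ 0)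

/-- tensoring a short exact sequence with flat cokernel (and flat middle) stays injective -/
theorem rTensor_injective_of_flat (S : ShortComplex (ModuleCat.{u} R)) (hS : S.ShortExact)
    [Module.Flat R S.X₂] [Module.Flat R S.X₃] (Y : ModuleCat.{u} R) :
    Function.Injective (S.f.hom.rTensor Y) :=
  (isZero_tor_one_X₃_iff S hS Y (isZero_tor_succ_of_flat _ _ 0)).1 (isZero_tor_succ_of_flat _ _ 0)

section Lin

variable {A B C : Type u} [AddCommGroup A] [Module R A] [AddCommGroup B] [Module R B]
  [AddCommGroup C] [Module R C]

/-- linear form: `g : A → B` surjective, `A`, `B` flat ⇒ `ker g` flat -/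
theorem flat_ker (g : A →ₗ[R] B) (hg : Function.Surjective g) [Module.Flat R A] [Module.Flat R B] :
    Module.Flat R (LinearMap.ker g) := by
  have hS := LinearMap.shortExact_shortComplexKer hg
  have : Module.Flat R g.shortComplexKer.X₂ := ‹Module.Flat R A›
  have : Module.Flat R g.shortComplexKer.X₃ := ‹Module.Flat R B›
  exact flat_X₁ _ hS

theorem rTensor_subtype_injective (g : A →ₗ[R] B) (hg : Function.Surjective g) [Module.Flat R A]
    [Module.Flat R B] (Y : Type u) [AddCommGroup Y] [Module R Y] :
    Function.Injective ((LinearMap.ker g).subtype.rTensor Y) := by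
  have hS := LinearMap.shortExact_shortComplexKer hg
  have : Module.Flat R g.shortComplexKer.X₂ := ‹Module.Flat R A›
  have : Module.Flat R g.shortComplexKer.X₃ := ‹Module.Flat R B›
  exact rTensor_injective_of_flat _ hS (ModuleCat.of R Y)

/-- version with a map onto a flat submodule -/
theorem ker_flat_of_range (g : A →ₗ[R] B) (Z' : Submodule R B) (hZ : LinearMap.range g = Z')
    [Module.Flat R A] [Module.Flat R Z'] :
    Module.Flat R (LinearMap.ker g) ∧
      ∀ (Y : Type u) [AddCommGroup Y] [Module R Y],
        Function.Injective ((LinearMap.ker g).subtype.rTensor Y) := by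
  subst hZ
  have hs : Function.Surjective g.rangeRestrict := g.surjective_rangeRestrict
  have hk : LinearMap.ker g.rangeRestrict = LinearMap.ker g := LinearMap.ker_rangeRestrict g
  rw [← hk]
  exact ⟨flat_ker _ hs, fun Y _ _ => rTensor_subtype_injective _ hs Y⟩

/-- three-term exactness after tensoring -/
theorem rTensor_exact_of_range (f : A →ₗ[R] B) (g : B →ₗ[R] C) (hfg : Function.Exact f g)
    (Z : Submodule R C) (hZ : LinearMap.range g = Z) (Y : Type u) [AddCommGroup Y] [Module R Y]
    (hinj : Function.Injective (Z.subtype.rTensor Y)) :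
    Function.Exact (f.rTensor Y) (g.rTensor Y) := by
  subst hZ
  have h1 : Function.Exact f g.rangeRestrict := by
    intro y
    rw [← hfg y]
    constructor
    · intro h
      have := congrArg Subtype.val h
      simpa using this
    · intro h
      ext
      simpa using h
  have h2 : Function.Exact (f.rTensor Y) (g.rangeRestrict.rTensor Y) :=
    rTensor_exact Y h1 g.surjective_rangeRestrict
  have h3 : g.rTensor Y = (LinearMap.range g).subtype.rTensor Y ∘ₗ g.rangeRestrict.rTensor Y := by
    rw [← LinearMap.rTensor_comp]
    rfl
  intro y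
  rw [← h2 y, h3]
  simp only [LinearMap.coe_comp, Function.comp_apply]
  constructor
  · intro h
    exact hinj (h.trans (map_zero _).symm)
  · intro h
    rw [h, map_zero]

end Lin

end Groth.Agent.Helper5.FlatAcyc
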