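import Mathlib
import Groth.Agent.Lib.Helper5.TorAmp.FlatLin

set_option autoImplicit false
universe w v u
open CategoryTheory Limits MonoidalCategory Pretriangulated DerivedCategory

namespace Groth.Agent.Helper5.FlatAcyc

section General
variable {C : Type u} [Category.{v} C] [Abelian C] [HasDerivedCategory.{w} C]

theorem isZero_Q_iff_acyclic (X : CochainComplex C ℤ) : IsZero (Q.obj X) ↔ X.Acyclic := by
  constructor
  · intro h n
    rw [HomologicalComplex.exactAt_iff_isZero_homology]
    have h1 : IsZero ((homologyFunctor C n).obj (Q.obj X)) := Functor.map_isZero _ h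
    exact h1.of_iso ((homologyFunctorFactors C n).app X).symm
  · intro h
    have hz : ∀ n, IsZero ((homologyFunctor C n).obj (Q.obj X)) := by
      intro n
      have := h n
      rw [HomologicalComplex.exactAt_iff_isZero_homology] at this
      exact this.of_iso ((homologyFunctorFactors C n).app X)
    have h1 : (Q.obj X).IsLE 0 := by
      rw [isLE_iff]
      intro i _
      exact hz i
    have h2 : (Q.obj X).IsGE 1 := by
      rw [isGE_iff]
      intro i _
      exact hz i
    exact TStructure.t.isZero (Q.obj X) 0 1 (by omega)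

theorem quasiIso_iff_acyclic_cone {K L : CochainComplex C ℤ} (f : K ⟶ L) :
    QuasiIso f ↔ (CochainComplex.mappingCone f).Acyclic := by
  rw [← isZero_Q_iff_acyclic, ← isIso_Q_map_iff_quasiIso]
  exact (Triangle.isZero₃_iff_isIso₁ _ (mappingCone_triangle_distinguished f)).symm

end General

variable {R : Type u} [CommRing R]

/-- the functor `- ⊗ M` on complexes -/
noncomputable abbrev TM (M : ModuleCat.{u} R) :
    CochainComplex (ModuleCat.{u} R) ℤ ⥤ CochainComplex (ModuleCat.{u} R) ℤ :=
  (tensorRight M).mapHomologicalComplex (ComplexShape.up ℤ)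

theorem exact_of_exactAt (X : CochainComplex (ModuleCat.{u} R) ℤ) (i j k : ℤ) (hij : i + 1 = j)
    (hjk : j + 1 = k) (h : X.ExactAt j) :
    Function.Exact (X.d i j).hom (X.d j k).hom := by
  rw [HomologicalComplex.exactAt_iff' X i j k (by simp; omega) (by simp; omega)] at h
  exact (ShortComplex.ShortExact.moduleCat_exact_iff_function_exact _).1 h

theorem exactAt_of_exact (X : CochainComplex (ModuleCat.{u} R) ℤ) (i j k : ℤ) (hij : i + 1 = j)
    (hjk : j + 1 = k) (h : Function.Exact (X.d i j).hom (X.d j k).hom) : X.ExactAt j := by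
  rw [HomologicalComplex.exactAt_iff' X i j k (by simp; omega) (by simp; omega)]
  exact (ShortComplex.ShortExact.moduleCat_exact_iff_function_exact _).2 h

theorem TM_d_hom (M : ModuleCat.{u} R) (X : CochainComplex (ModuleCat.{u} R) ℤ) (i j : ℤ) :
    (((TM M).obj X).d i j).hom = (X.d i j).hom.rTensor M := rfl

/-- the cycle submodules of an acyclic bounded above complex of flat modules are flat -/
theorem flat_cycles (X : CochainComplex (ModuleCat.{u} R) ℤ) (hX : X.Acyclic)
    (hflat : ∀ i, Module.Flat R (X.X i)) (b : ℤ) (hb : ∀ i, b < i → IsZero (X.X i)) :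
    ∀ i : ℤ, Module.Flat R (LinearMap.ker (X.d i (i + 1)).hom) := by
  have key : ∀ (n : ℕ) (i : ℤ), b < i + n → Module.Flat R (LinearMap.ker (X.d i (i + 1)).hom) := by
    intro n
    induction n with
    | zero =>
      intro i hi
      have : Subsingleton (X.X i) := ModuleCat.subsingleton_of_isZero (hb i (by simpa using hi))
      infer_instance
    | succ n ih =>
      intro i hi
      have h1 := ih (i + 1) (by push_cast at hi; omega)
      have hex := exact_of_exactAt X i (i + 1) (i + 1 + 1) rfl rfl (hX _)
      have := hflat i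
      exact (ker_flat_of_range (X.d i (i + 1)).hom _
        (LinearMap.exact_iff.1 hex).symm).1
  intro i
  exact key (b - i + 1).toNat i (by omega)

/-- a bounded above acyclic complex of flat modules stays acyclic after tensoring -/
theorem acyclic_tensor (X : CochainComplex (ModuleCat.{u} R) ℤ) (hX : X.Acyclic)
    (hflat : ∀ i, Module.Flat R (X.X i)) (b : ℤ) (hb : ∀ i, b < i → IsZero (X.X i))
    (M : ModuleCat.{u} R) : ((TM M).obj X).Acyclic := by
  intro j
  refine exactAt_of_exact _ (j - 1) j (j + 1) (by omega) rfl ?_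
  rw [TM_d_hom, TM_d_hom]
  have hex := exact_of_exactAt X (j - 1) j (j + 1) (by omega) rfl (hX _)
  have hex1 := exact_of_exactAt X j (j + 1) (j + 1 + 1) rfl rfl (hX _)
  have hex2 := exact_of_exactAt X (j + 1) (j + 1 + 1) (j + 1 + 1 + 1) rfl rfl (hX _)
  have := hflat (j + 1)
  have := flat_cycles X hX hflat b hb (j + 1 + 1)
  have hinj := (ker_flat_of_range (X.d (j + 1) (j + 1 + 1)).hom _
        (LinearMap.exact_iff.1 hex2).symm).2 M
  exact rTensor_exact_of_range _ _ hex _ (LinearMap.exact_iff.1 hex1).symm M hinj

theorem flat_prod (M N : Type*) [AddCommGroup M] [Module R M] [AddCommGroup N] [Module R N]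
    [Module.Flat R M] [Module.Flat R N] : Module.Flat R (M × N) := by
  rw [Module.Flat.iff_rTensor_injective']
  intro I
  rw [injective_iff_map_eq_zero]
  intro x hx
  have hid : LinearMap.inl R M N ∘ₗ LinearMap.fst R M N +
      LinearMap.inr R M N ∘ₗ LinearMap.snd R M N = LinearMap.id := by
    ext <;> simp
  have h1 : (LinearMap.fst R M N).lTensor I x = 0 := by
    apply (Module.Flat.iff_rTensor_injective'.1 ‹Module.Flat R M›) I
    rw [map_zero, ← LinearMap.comp_apply, LinearMap.rTensor_comp_lTensor,
      ← LinearMap.lTensor_comp_rTensor, LinearMap.comp_apply, hx, map_zero]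
  have h2 : (LinearMap.snd R M N).lTensor I x = 0 := by
    apply (Module.Flat.iff_rTensor_injective'.1 ‹Module.Flat R N›) I
    rw [map_zero, ← LinearMap.comp_apply, LinearMap.rTensor_comp_lTensor,
      ← LinearMap.lTensor_comp_rTensor, LinearMap.comp_apply, hx, map_zero]
  have : x = LinearMap.lTensor I (LinearMap.id : M × N →ₗ[R] M × N) x := by simp
  rw [this, ← hid, LinearMap.lTensor_add, LinearMap.lTensor_comp, LinearMap.lTensor_comp,
    LinearMap.add_apply, LinearMap.comp_apply, LinearMap.comp_apply, h1, h2, map_zero, map_zero,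
    add_zero]

theorem flat_cone {P E : CochainComplex (ModuleCat.{u} R) ℤ} (f : P ⟶ E)
    (hP : ∀ i, Module.Flat R (P.X i)) (hE : ∀ i, Module.Flat R (E.X i)) (i : ℤ) :
    Module.Flat R ((CochainComplex.mappingCone f).X i) := by
  let e : (CochainComplex.mappingCone f).X i ≅ ModuleCat.of R (P.X (i+1) × E.X i) :=
    HomologicalComplex.homotopyCofiber.XIsoBiprod f i (i + 1) rfl ≪≫ ModuleCat.biprodIsoProd _ _
  have := hP (i + 1)
  have := hE i
  have : Module.Flat R (P.X (i+1) × E.X i) := flat_prod _ _
  exact Module.Flat.of_linearEquiv e.toLinearEquiv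

attribute [local instance] HasDerivedCategory.standard in
/-- a quasi-isomorphism between bounded above complexes of flat modules stays a quasi-isomorphism
after tensoring with any module -/
theorem quasiIso_tensor {P E : CochainComplex (ModuleCat.{u} R) ℤ} (f : P ⟶ E) (hf : QuasiIso f)
    (hP : ∀ i, Module.Flat R (P.X i)) (hE : ∀ i, Module.Flat R (E.X i)) (b : ℤ)
    (hPb : ∀ i, b < i → IsZero (P.X i)) (hEb : ∀ i, b < i → IsZero (E.X i))
    (M : ModuleCat.{u} R) : QuasiIso ((TM M).map f) := by
  rw [quasiIso_iff_acyclic_cone] at hf ⊢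
  have h1 := acyclic_tensor _ hf (flat_cone f hP hE) b (fun i hi => by
    rw [CochainComplex.mappingCone.isZero_X_iff]
    exact ⟨hPb _ (by omega), hEb _ hi⟩) M
  intro n
  exact (h1 n).of_iso (CochainComplex.mappingCone.mapHomologicalComplexIso f (tensorRight M))

end Groth.Agent.Helper5.FlatAcyc
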