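import Mathlib
import Groth.Agent.Lib.Helper5.TorAmp.FlatAcyc

set_option autoImplicit false
universe u
open CategoryTheory Limits MonoidalCategory

namespace Groth.Agent.Helper5.FlatAcyc
open Groth.Agent.Helper1.TorL

variable {R : Type u} [CommRing R]

section Lin
variable {A B C : Type u} [AddCommGroup A] [Module R A] [AddCommGroup B] [Module R B]
  [AddCommGroup C] [Module R C]

/-- injectivity of `range g ⊗ Y → C ⊗ Y` from exactness of the tensored sequence -/
theorem rTensor_range_subtype_injective (f : A →ₗ[R] B) (g : B →ₗ[R] C)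
    (hfg : Function.Exact f g) (Y : Type u) [AddCommGroup Y] [Module R Y]
    (hY : Function.Exact (f.rTensor Y) (g.rTensor Y)) :
    Function.Injective ((LinearMap.range g).subtype.rTensor Y) := by
  rw [injective_iff_map_eq_zero]
  intro z hz
  obtain ⟨y, rfl⟩ := LinearMap.rTensor_surjective Y g.surjective_rangeRestrict z
  have h3 : g.rTensor Y = (LinearMap.range g).subtype.rTensor Y ∘ₗ g.rangeRestrict.rTensor Y := by
    rw [← LinearMap.rTensor_comp]
    rfl
  have h4 : g.rTensor Y y = 0 := by rw [h3, LinearMap.comp_apply, hz]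
  obtain ⟨x, rfl⟩ := (hY y).1 h4
  rw [← LinearMap.comp_apply, ← LinearMap.rTensor_comp]
  have : g.rangeRestrict ∘ₗ f = 0 := by
    ext a
    simpa using hfg.apply_apply_eq_zero a
  rw [this, LinearMap.rTensor_zero, LinearMap.zero_apply]

/-- flatness of a cokernel from universal exactness one step to the left -/
theorem flat_quotient_range (f : A →ₗ[R] B) (g : B →ₗ[R] C) [Module.Flat R C]
    (hfg : Function.Exact f g)
    (hY : ∀ I : Ideal R, Function.Exact (f.rTensor (R ⧸ I)) (g.rTensor (R ⧸ I))) :
    Module.Flat R (C ⧸ LinearMap.range g) := by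
  rw [flat_iff_tor_one_quotient]
  intro I _
  have hS := shortExact_subtype_mkQ (R := R) (LinearMap.range g)
  refine (isZero_tor_one_X₃_iff _ hS (ModuleCat.of R (R ⧸ I)) ?_).2 ?_
  · have : Module.Flat R (ModuleCat.of R C) := ‹Module.Flat R C›
    exact isZero_tor_succ_of_flat (ModuleCat.of R C) _ 0
  · exact rTensor_range_subtype_injective f g hfg (R ⧸ I) (hY I)

end Lin

end Groth.Agent.Helper5.FlatAcyc

namespace Groth.Agent.Helper5.FlatAcyc
open Groth.Agent.Helper1.TorL

variable {R : Type u} [CommRing R]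

/-- `opcycles` of a complex of modules as a quotient module -/
noncomputable def opcyclesIsoQuotient (P : CochainComplex (ModuleCat.{u} R) ℤ) (i j : ℤ)
    (hij : i + 1 = j) :
    P.opcycles j ≅ ModuleCat.of R (P.X j ⧸ LinearMap.range (P.d i j).hom) :=
  (IsColimit.coconePointUniqueUpToIso (P.opcyclesIsCokernel i j (by simp; omega))
    (cokernelIsCokernel (P.d i j))) ≪≫ ModuleCat.cokernelIsoRangeQuotient _

/-- flatness of the cokernel `P^a / im d` of a complex of flats with universally vanishing
cohomology in degree `a - 1`. -/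
theorem flat_opcycles (P : CochainComplex (ModuleCat.{u} R) ℤ) (hflat : ∀ i, Module.Flat R (P.X i))
    (a : ℤ) (hP : P.ExactAt (a - 1))
    (hT : ∀ I : Ideal R, ((TM (ModuleCat.of R (R ⧸ I))).obj P).ExactAt (a - 1)) :
    Module.Flat R (P.opcycles a) := by
  have h1 := exact_of_exactAt P (a - 1 - 1) (a - 1) a (by omega) (by omega) hP
  have h2 : ∀ I : Ideal R, Function.Exact ((P.d (a - 1 - 1) (a - 1)).hom.rTensor (R ⧸ I))
      ((P.d (a - 1) a).hom.rTensor (R ⧸ I)) := fun I =>
    exact_of_exactAt ((TM (ModuleCat.of R (R ⧸ I))).obj P) (a - 1 - 1) (a - 1) a (by omega)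
      (by omega) (hT I)
  have := hflat a
  have := flat_quotient_range _ _ h1 h2
  exact Module.Flat.of_linearEquiv (opcyclesIsoQuotient P (a - 1) a (by omega)).toLinearEquiv

end Groth.Agent.Helper5.FlatAcyc
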