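import Mathlib
import Groth.Agent.Lib.Helper5.TorAmp.FlatTrunc
import Groth.Agent.Lib.Helper5.DRing.PRes
import Groth.Agent.Lib.Helper5.DRing.ConeG
import Groth.Prelude.Def_DRing2

set_option autoImplicit false
universe u
open CategoryTheory Limits MonoidalCategory Pretriangulated DerivedCategory
attribute [local instance] HasDerivedCategory.standard

namespace Groth.Agent.Helper5.TorAmp
open Groth.Agent.Helper5.FlatAcyc

variable {R : Type u} [CommRing R]

/-- universal vanishing of the cohomology of `P ⊗ M` outside `[a, b]` -/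
def TorVan (a b : ℤ) (P : DRing.Cx R) : Prop :=
  ∀ (M : ModuleCat.{u} R) (i : ℤ), (i < a ∨ b < i) → ((TM M).obj P).ExactAt i

theorem TorVan.of_vanishesOutside {a b : ℤ} {E : DRing.Cx R} (h : DRing.VanishesOutside E a b) :
    TorVan a b E := by
  intro M i hi
  apply HomologicalComplex.ExactAt.of_isZero
  exact Functor.map_isZero (tensorRight M) (h i hi)

/-- invariance under quasi-isomorphisms of bounded above flat complexes -/
theorem TorVan.of_quasiIso {a b : ℤ} {P E : DRing.Cx R} (f : P ⟶ E) (hf : QuasiIso f)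
    (hP : DRing.TermwiseFlat P) (hE : DRing.TermwiseFlat E) (c : ℤ)
    (hPb : DRing.VanishesAbove P c) (hEb : DRing.VanishesAbove E c) :
    TorVan a b P ↔ TorVan a b E := by
  have key : ∀ (M : ModuleCat.{u} R) (i : ℤ),
      IsIso (HomologicalComplex.homologyMap ((TM M).map f) i) := by
    intro M i
    have h1 : QuasiIso ((TM M).map f) := quasiIso_tensor f hf hP hE c hPb hEb M
    have h2 : QuasiIsoAt ((TM M).map f) i := h1.quasiIsoAt i
    exact (quasiIsoAt_iff_isIso_homologyMap _ i).1 h2
  constructor
  · intro h M i hi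
    have := key M i
    have h1 := h M i hi
    rw [HomologicalComplex.exactAt_iff_isZero_homology] at h1 ⊢
    exact h1.of_iso (asIso (HomologicalComplex.homologyMap ((TM M).map f) i)).symm
  · intro h M i hi
    have := key M i
    have h1 := h M i hi
    rw [HomologicalComplex.exactAt_iff_isZero_homology] at h1 ⊢
    exact h1.of_iso (asIso (HomologicalComplex.homologyMap ((TM M).map f) i))

end Groth.Agent.Helper5.TorAmp

namespace Groth.Agent.Helper5.TorAmp
open Groth.Agent.Helper5.FlatAcyc

variable {R : Type u} [CommRing R]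

/-- `P ⊗ R ≅ P` -/
noncomputable def tmUnitIso (P : DRing.Cx R) : (TM (𝟙_ (ModuleCat.{u} R))).obj P ≅ P :=
  HomologicalComplex.Hom.isoOfComponents (fun i => ρ_ (P.X i)) (by
    intro i j _
    exact (rightUnitor_naturality (P.d i j)).symm)

theorem TorVan.exactAt {a b : ℤ} {P : DRing.Cx R} (h : TorVan a b P) (i : ℤ) (hi : i < a ∨ b < i) :
    P.ExactAt i :=
  (h _ i hi).of_iso (tmUnitIso P)

theorem isZero_opcycles_of_isZero (P : DRing.Cx R) (i : ℤ) (h : IsZero (P.X i)) :
    IsZero (P.opcycles i) := by
  rw [IsZero.iff_id_eq_zero, ← cancel_epi (P.pOpcycles i)]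
  exact h.eq_of_src _ _

/-- flat truncation: a bounded above complex of flats with universally vanishing cohomology
outside `[a, b]` has tor amplitude in `[a, b]`. -/
theorem hasTorAmplitudeIn_of_torVan {a b : ℤ} (P : DRing.Cx R) (hflat : DRing.TermwiseFlat P)
    (hb : DRing.VanishesAbove P b) (h : TorVan a b P) :
    DRing.HasTorAmplitudeIn R a b (DRing.toD P) := by
  have hGE : P.IsGE a := by
    rw [CochainComplex.isGE_iff]
    intro i hi
    exact h.exactAt i (Or.inl hi)
  have hq : QuasiIso (P.πTruncGE a) := inferInstance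
  refine ⟨P.truncGE a, ?_, ?_, ⟨(asIso (Q.map (P.πTruncGE a))).symm⟩⟩
  · intro i hi
    rcases hi with hi | hi
    · exact (P.truncGE a).isZero_of_isStrictlyGE a i hi
    · rcases lt_trichotomy i a with h1 | h1 | h1
      · exact (P.truncGE a).isZero_of_isStrictlyGE a i h1
      · subst h1
        exact (isZero_opcycles_of_isZero P i (hb i hi)).of_iso (P.truncGEXIsoOpcycles i)
      · exact (hb i hi).of_iso (P.truncGEXIso a i h1)
  · intro i
    rcases lt_trichotomy i a with h1 | h1 | h1
    · have : Subsingleton ((P.truncGE a).X i) :=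
        ModuleCat.subsingleton_of_isZero ((P.truncGE a).isZero_of_isStrictlyGE a i h1)
      infer_instance
    · subst h1
      have := flat_opcycles P hflat i (h.exactAt _ (Or.inl (by omega)))
        (fun I => h _ _ (Or.inl (by omega)))
      exact Module.Flat.of_linearEquiv (P.truncGEXIsoOpcycles i).toLinearEquiv
    · have := hflat i
      exact Module.Flat.of_linearEquiv (P.truncGEXIso a i h1).toLinearEquiv

end Groth.Agent.Helper5.TorAmp

namespace Groth.Agent.Helper5.TorAmp
open Groth.Agent.Helper5.FlatAcyc Groth.Agent.Helper5.PRes Groth.Agent.Helper5.ConeG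

variable {R : Type u} [CommRing R]

theorem hasTorAmplitudeIn_of_iso {a b : ℤ} {K L : Dual.D R} (e : K ≅ L)
    (h : DRing.HasTorAmplitudeIn R a b K) : DRing.HasTorAmplitudeIn R a b L := by
  obtain ⟨E, h1, h2, ⟨e'⟩⟩ := h
  exact ⟨E, h1, h2, ⟨e' ≪≫ e⟩⟩

theorem isStrictlyLE_of_vanishesAbove {P : DRing.Cx R} {c : ℤ} (h : DRing.VanishesAbove P c) :
    P.IsStrictlyLE c := by
  rw [CochainComplex.isStrictlyLE_iff]
  exact h

theorem vanishesAbove_of_isStrictlyLE (P : DRing.Cx R) (c : ℤ) [P.IsStrictlyLE c] :
    DRing.VanishesAbove P c := fun i hi => P.isZero_of_isStrictlyLE c i hi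

theorem VanishesAbove.mono {P : DRing.Cx R} {c c' : ℤ} (h : DRing.VanishesAbove P c) (hc : c ≤ c') :
    DRing.VanishesAbove P c' := fun i hi => h i (by omega)

theorem termwiseFlat_of_projective (P : DRing.Cx R) (h : ∀ i, Projective (P.X i)) :
    DRing.TermwiseFlat P := fun i => by
  have := h i
  exact Groth.Agent.Helper1.TorL.flat_of_projective (P.X i)

/-- projective resolution of a bounded above complex, as a package -/
theorem exists_resolution (P : DRing.Cx R) (c : ℤ) (hc : DRing.VanishesAbove P c) :
    ∃ (P' : DRing.Cx R) (p : P' ⟶ P), QuasiIso p ∧ (∀ i, Projective (P'.X i)) ∧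
      DRing.VanishesAbove P' c ∧ P'.IsKProjective := by
  have := isStrictlyLE_of_vanishesAbove hc
  obtain ⟨P', p, hp, hproj, hle⟩ := exists_quasiIso_projective P c
  exact ⟨P', p, hp, hproj, vanishesAbove_of_isStrictlyLE P' c,
    CochainComplex.isKProjective_of_projective P' c⟩

/-- **Characterisation of tor amplitude** through a bounded above flat representative. -/
theorem hasTorAmplitudeIn_iff (P : DRing.Cx R) (hflat : DRing.TermwiseFlat P) (c : ℤ)
    (hc : DRing.VanishesAbove P c) (a b : ℤ) :
    DRing.HasTorAmplitudeIn R a b (DRing.toD P) ↔ TorVan a b P := by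
  constructor
  · rintro ⟨E, hE1, hE2, ⟨e⟩⟩
    have hEb : DRing.VanishesAbove E b := fun i hi => hE1 i (Or.inr hi)
    obtain ⟨P', p, hp, hproj, hP'c, hK⟩ := exists_resolution P c hc
    obtain ⟨g, hg⟩ := exists_chain_map P' E (Q.map p ≫ e.inv)
    have hgq : QuasiIso g := by
      rw [← isIso_Q_map_iff_quasiIso, hg]
      infer_instance
    have hP'flat := termwiseFlat_of_projective P' hproj
    rw [← TorVan.of_quasiIso p hp hP'flat hflat c hP'c hc,
      TorVan.of_quasiIso g hgq hP'flat hE2 (max c b) (VanishesAbove.mono hP'c (le_max_left _ _))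
        (VanishesAbove.mono hEb (le_max_right _ _))]
    exact TorVan.of_vanishesOutside hE1
  · intro h
    have hLE : P.IsLE b := by
      rw [CochainComplex.isLE_iff]
      intro i hi
      exact h.exactAt i (Or.inr hi)
    have hq : QuasiIso (P.ιTruncLE b) := inferInstance
    obtain ⟨P', p, hp, hproj, hP'b, hK⟩ := exists_resolution (P.truncLE b) b
      (vanishesAbove_of_isStrictlyLE _ b)
    have hP'flat := termwiseFlat_of_projective P' hproj
    have hcomp : QuasiIso (p ≫ P.ιTruncLE b) := inferInstance
    have h' : TorVan a b P' := by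
      rw [TorVan.of_quasiIso (p ≫ P.ιTruncLE b) hcomp hP'flat hflat (max c b)
        (VanishesAbove.mono hP'b (le_max_right _ _)) (VanishesAbove.mono hc (le_max_left _ _))]
      exact h
    exact hasTorAmplitudeIn_of_iso (asIso (Q.map (p ≫ P.ιTruncLE b)))
      (hasTorAmplitudeIn_of_torVan P' hP'flat hP'b h')

end Groth.Agent.Helper5.TorAmp
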