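import Mathlib
import Groth.Agent.Lib.Helper5.TorAmp.Char

set_option autoImplicit false
universe u
open CategoryTheory Limits MonoidalCategory Pretriangulated DerivedCategory
attribute [local instance] HasDerivedCategory.standard

namespace Groth.Agent.Helper5.TorAmp
open Groth.Agent.Helper5.FlatAcyc Groth.Agent.Helper5.PRes Groth.Agent.Helper5.ConeG

variable {R : Type u} [CommRing R]

/-- bounded above objects of `D(R)` have bounded above projective representatives -/
theorem exists_proj_rep (K : Dual.D R) (c : ℤ) [K.IsLE c] :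
    ∃ (P : DRing.Cx R), DRing.VanishesAbove P c ∧ (∀ i, Projective (P.X i)) ∧
      P.IsKProjective ∧ Nonempty (DRing.toD P ≅ K) := by
  obtain ⟨K', hK', ⟨e⟩⟩ := exists_iso_Q_obj_of_isLE K c
  obtain ⟨P, p, hp, hproj, hPc, hK⟩ := exists_resolution K' c (vanishesAbove_of_isStrictlyLE K' c)
  exact ⟨P, hPc, hproj, hK, ⟨asIso (Q.map p) ≪≫ e.symm⟩⟩

theorem isLE_of_hasTorAmplitudeIn {a b : ℤ} {K : Dual.D R} (h : DRing.HasTorAmplitudeIn R a b K) :
    K.IsLE b := by
  obtain ⟨E, h1, h2, ⟨e⟩⟩ := h
  have : E.IsStrictlyLE b := isStrictlyLE_of_vanishesAbove (fun i hi => h1 i (Or.inr hi))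
  have : (Q.obj E).IsLE b := inferInstance
  exact TStructure.t.isLE_of_iso e b

/-- characterisation through any bounded above flat representative -/
theorem hasTorAmplitudeIn_iff' {K : Dual.D R} (P : DRing.Cx R) (hflat : DRing.TermwiseFlat P)
    (c : ℤ) (hc : DRing.VanishesAbove P c) (e : DRing.toD P ≅ K) (a b : ℤ) :
    DRing.HasTorAmplitudeIn R a b K ↔ TorVan a b P := by
  rw [← hasTorAmplitudeIn_iff P hflat c hc]
  exact ⟨hasTorAmplitudeIn_of_iso e.symm, hasTorAmplitudeIn_of_iso e⟩

end Groth.Agent.Helper5.TorAmp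

namespace Groth.Agent.Helper5.TorAmp
open Groth.Agent.Helper5.FlatAcyc Groth.Agent.Helper5.PRes Groth.Agent.Helper5.ConeG

variable {R : Type u} [CommRing R]

theorem TorVan.of_retract {a b : ℤ} {P P' : DRing.Cx R} (i : P ⟶ P') (p : P' ⟶ P)
    (hip : i ≫ p = 𝟙 P) (h : TorVan a b P') : TorVan a b P := by
  intro M n hn
  have h1 := h M n hn
  rw [HomologicalComplex.exactAt_iff_isZero_homology] at h1 ⊢
  rw [IsZero.iff_id_eq_zero]
  have : 𝟙 (((TM M).obj P).homology n) =
      HomologicalComplex.homologyMap ((TM M).map i) n ≫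
        HomologicalComplex.homologyMap ((TM M).map p) n := by
    rw [← HomologicalComplex.homologyMap_comp, ← Functor.map_comp, hip, CategoryTheory.Functor.map_id,
      HomologicalComplex.homologyMap_id]
  rw [this, h1.eq_of_tgt (HomologicalComplex.homologyMap ((TM M).map i) n) 0, zero_comp]

theorem isLE_of_retract {K X : Dual.D R} (i : K ⟶ X) (p : X ⟶ K) (hip : i ≫ p = 𝟙 K) (b : ℤ)
    [X.IsLE b] : K.IsLE b := by
  rw [isLE_iff]
  intro n hn
  rw [IsZero.iff_id_eq_zero]
  have : 𝟙 ((homologyFunctor _ n).obj K) =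
      (homologyFunctor _ n).map i ≫ (homologyFunctor _ n).map p := by
    rw [← Functor.map_comp, hip, CategoryTheory.Functor.map_id]
  rw [this, (isZero_of_isLE X b n hn).eq_of_tgt ((homologyFunctor _ n).map i) 0, zero_comp]

theorem flat_biprod (P P' : DRing.Cx R) (h : DRing.TermwiseFlat P) (h' : DRing.TermwiseFlat P') :
    DRing.TermwiseFlat (P ⊞ P') := by
  intro i
  have := h i
  have := h' i
  have : Module.Flat R (P.X i × P'.X i) := flat_prod _ _
  exact Module.Flat.of_linearEquiv
    (HomologicalComplex.biprodXIso P P' i ≪≫ ModuleCat.biprodIsoProd _ _).toLinearEquiv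

theorem vanishesAbove_biprod (P P' : DRing.Cx R) (c : ℤ) (h : DRing.VanishesAbove P c)
    (h' : DRing.VanishesAbove P' c) : DRing.VanishesAbove (P ⊞ P') c := by
  intro i hi
  refine IsZero.of_iso ?_ (HomologicalComplex.biprodXIso P P' i)
  rw [IsZero.iff_id_eq_zero]
  apply biprod.hom_ext
  · exact (h i hi).eq_of_tgt _ _
  · exact (h' i hi).eq_of_tgt _ _

end Groth.Agent.Helper5.TorAmp
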