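import Mathlib
import Groth.Agent.Lib.Helper5.TorAmp.Rep

set_option autoImplicit false
universe w v u
open CategoryTheory Limits MonoidalCategory Pretriangulated DerivedCategory

namespace Groth.Agent.Helper5.TorAmp
open Groth.Agent.Helper5.FlatAcyc Groth.Agent.Helper5.PRes Groth.Agent.Helper5.ConeG

section General
variable {C : Type u} [Category.{v} C] [Abelian C] [HasDerivedCategory.{w} C]

theorem exactAt_iff_isZero_H (K : CochainComplex C ℤ) (i : ℤ) :
    K.ExactAt i ↔ IsZero ((homologyFunctor C i).obj (Q.obj K)) := by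
  rw [HomologicalComplex.exactAt_iff_isZero_homology]
  exact ((homologyFunctorFactors C i).app K).symm.isZero_iff

/-- the cone of `φ : K ⟶ L` is exact at `i` when `K` is exact at `i + 1` and `L` at `i`. -/
theorem exactAt_cone {K L : CochainComplex C ℤ} (φ : K ⟶ L) (i : ℤ)
    (hK : K.ExactAt (i + 1)) (hL : L.ExactAt i) : (CochainComplex.mappingCone φ).ExactAt i := by
  rw [exactAt_iff_isZero_H] at hK hL ⊢
  have hT := mappingCone_triangle_distinguished φ
  refine (HomologySequence.exact₃ _ hT i (i + 1) rfl).isZero_of_both_zeros ?_ ?_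
  · exact hL.eq_of_src _ _
  · exact hK.eq_of_tgt _ _

end General

attribute [local instance] HasDerivedCategory.standard

variable {R : Type u} [CommRing R]

theorem TorVan.cone {a b : ℤ} {P P' : DRing.Cx R} (φ : P ⟶ P')
    (h : TorVan (a + 1) (b + 1) P) (h' : TorVan a b P') :
    TorVan a b (CochainComplex.mappingCone φ) := by
  intro M i hi
  have h1 := exactAt_cone ((TM M).map φ) i (h M (i + 1) (by omega)) (h' M i hi)
  exact h1.of_iso (CochainComplex.mappingCone.mapHomologicalComplexIso φ (tensorRight M)).symm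

theorem flat_cone' {P P' : DRing.Cx R} (φ : P ⟶ P') (h : DRing.TermwiseFlat P)
    (h' : DRing.TermwiseFlat P') : DRing.TermwiseFlat (CochainComplex.mappingCone φ) :=
  fun i => flat_cone φ h h' i

theorem vanishesAbove_cone {P P' : DRing.Cx R} (φ : P ⟶ P') (b : ℤ)
    (h : DRing.VanishesAbove P (b + 1)) (h' : DRing.VanishesAbove P' b) :
    DRing.VanishesAbove (CochainComplex.mappingCone φ) b := by
  intro i hi
  rw [CochainComplex.mappingCone.isZero_X_iff]
  exact ⟨h _ (by omega), h' _ hi⟩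

/-- cone step for tor amplitude -/
theorem hasTorAmplitudeIn_obj₃ {a b : ℤ} (T : Triangle (Dual.D R)) (hT : T ∈ distTriang _)
    (h₁ : DRing.HasTorAmplitudeIn R (a + 1) (b + 1) T.obj₁)
    (h₂ : DRing.HasTorAmplitudeIn R a b T.obj₂) : DRing.HasTorAmplitudeIn R a b T.obj₃ := by
  have := isLE_of_hasTorAmplitudeIn h₁
  have := isLE_of_hasTorAmplitudeIn h₂
  obtain ⟨P, hPb, hPproj, hPK, ⟨eP⟩⟩ := exists_proj_rep T.obj₁ (b + 1)
  obtain ⟨P', hP'b, hP'proj, hP'K, ⟨eP'⟩⟩ := exists_proj_rep T.obj₂ b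
  have hPf := termwiseFlat_of_projective P hPproj
  have hP'f := termwiseFlat_of_projective P' hP'proj
  obtain ⟨φ, ⟨e⟩⟩ := cone_iso T hT P P' (exists_chain_map P P') eP eP'
  rw [hasTorAmplitudeIn_iff' _ (flat_cone' φ hPf hP'f) b (vanishesAbove_cone φ b hPb hP'b) e]
  exact TorVan.cone φ ((hasTorAmplitudeIn_iff' P hPf _ hPb eP _ _).1 h₁)
    ((hasTorAmplitudeIn_iff' P' hP'f _ hP'b eP' _ _).1 h₂)

end Groth.Agent.Helper5.TorAmp

namespace Groth.Agent.Helper5.TorAmp
attribute [local instance] HasDerivedCategory.standard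
variable {R : Type u} [CommRing R]

theorem hasTorAmplitudeIn_shift {a b : ℤ} {K : Dual.D R} (h : DRing.HasTorAmplitudeIn R a b K)
    (n : ℤ) (a' b' : ℤ) (ha : a' + n = a) (hb : b' + n = b) :
    DRing.HasTorAmplitudeIn R a' b' (K⟦n⟧) := by
  obtain ⟨E, h1, h2, ⟨e⟩⟩ := h
  refine ⟨E⟦n⟧, ?_, ?_, ⟨(Q.commShiftIso n).app E ≪≫ (shiftFunctor _ n).mapIso e⟩⟩
  · intro i hi
    exact h1 (i + n) (by omega)
  · intro i
    exact h2 (i + n)

/-- the three rotations (S7027) -/
theorem hasTorAmplitudeIn_of_distTriang (a b : ℤ) (T : Triangle (Dual.D R))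
    (hT : T ∈ distTriang _) :
    (DRing.HasTorAmplitudeIn R (a + 1) (b + 1) T.obj₁ → DRing.HasTorAmplitudeIn R a b T.obj₂ →
        DRing.HasTorAmplitudeIn R a b T.obj₃) ∧
      (DRing.HasTorAmplitudeIn R a b T.obj₁ → DRing.HasTorAmplitudeIn R a b T.obj₃ →
        DRing.HasTorAmplitudeIn R a b T.obj₂) ∧
      (DRing.HasTorAmplitudeIn R (a + 1) (b + 1) T.obj₂ → DRing.HasTorAmplitudeIn R a b T.obj₃ →
        DRing.HasTorAmplitudeIn R (a + 1) (b + 1) T.obj₁) := by
  refine ⟨hasTorAmplitudeIn_obj₃ T hT, ?_, ?_⟩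
  · intro h1 h3
    exact hasTorAmplitudeIn_obj₃ T.invRotate (inv_rot_of_distTriang _ hT)
      (hasTorAmplitudeIn_shift h3 (-1) _ _ (by omega) (by omega)) h1
  · intro h2 h3
    exact hasTorAmplitudeIn_obj₃ T.invRotate.invRotate
      (inv_rot_of_distTriang _ (inv_rot_of_distTriang _ hT))
      (hasTorAmplitudeIn_shift h2 (-1) _ _ (by omega) (by omega))
      (hasTorAmplitudeIn_shift h3 (-1) _ _ (by omega) (by omega))

end Groth.Agent.Helper5.TorAmp
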