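import Mathlib
import Groth.Agent.Lib.Helper5.TorAmp.Tri
import Groth.Agent.Lib.Helper5.DRing.Dev2
import Groth.Agent.Lib.Helper5.DRing.DevT2

set_option autoImplicit false
universe u
open CategoryTheory Limits MonoidalCategory Pretriangulated DerivedCategory
open CAlg
attribute [local instance] HasDerivedCategory.standard

namespace Groth.Agent.Helper5.TorAmp
variable {R : Type u} [CommRing R]

instance (a b : ℤ) : ObjectProperty.IsClosedUnderIsomorphisms
    (fun X : Dual.D R => DRing.HasTorAmplitudeIn R a b X) where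
  of_iso e h := hasTorAmplitudeIn_of_iso e h

theorem hasTorAmplitudeIn_ext (a b : ℤ) (T : Triangle (Dual.D R)) (hT : T ∈ distTriang _)
    (h1 : DRing.HasTorAmplitudeIn R a b T.obj₁) (h3 : DRing.HasTorAmplitudeIn R a b T.obj₃) :
    DRing.HasTorAmplitudeIn R a b T.obj₂ :=
  (hasTorAmplitudeIn_of_distTriang a b T hT).2.1 h1 h3

theorem hasTorAmplitudeIn_single (a b : ℤ) (i : ℤ) (M : ModuleCat.{u} R)
    (h : DRing.HasTorAmplitudeIn R (a - i) (b - i) ((singleFunctor (ModuleCat.{u} R) 0).obj M)) :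
    DRing.HasTorAmplitudeIn R a b ((singleFunctor (ModuleCat.{u} R) i).obj M) :=
  hasTorAmplitudeIn_of_iso (((singleFunctors (ModuleCat.{u} R)).shiftIso (-i) i 0 (by omega)).app M)
    (hasTorAmplitudeIn_shift h (-i) a b (by omega) (by omega))

theorem s7033 (a b : ℤ) (K : Dual.D R)
    (hb : ∃ c d : ℤ, ∀ i : ℤ, (i < c ∨ d < i) → Subsingleton (Dual.HD R K i))
    (hK : ∀ i : ℤ, DRing.HasTorAmplitudeIn R (a - i) (b - i) (Dual.inD R (Dual.HD R K i))) :
    DRing.HasTorAmplitudeIn R a b K := by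
  obtain ⟨c, d, hcd⟩ := hb
  refine Devissage.of_homology' (fun X : Dual.D R => DRing.HasTorAmplitudeIn R a b X)
    (fun T hT h1 h3 => hasTorAmplitudeIn_ext a b T hT h1 h3) K c d ?_ ?_
  · intro i hi
    have := hcd i hi
    exact ModuleCat.isZero_of_subsingleton _
  · intro i
    exact hasTorAmplitudeIn_single a b i _ (hK i)

theorem s7032 (a b : ℤ) (K : DRing.Cx R)
    (c d : ℤ) (hcd : DRing.VanishesOutside K c d)
    (hK : ∀ i : ℤ, DRing.HasTorAmplitudeIn R (a - i) (b - i) (Dual.inD R (K.X i))) :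
    DRing.HasTorAmplitudeIn R a b (DRing.toD K) := by
  refine Devissage.of_terms' (fun X : Dual.D R => DRing.HasTorAmplitudeIn R a b X)
    (fun T hT h1 h3 => hasTorAmplitudeIn_ext a b T hT h1 h3) K c d hcd ?_
  intro i
  exact hasTorAmplitudeIn_single a b i _ (hK i)

end Groth.Agent.Helper5.TorAmp
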