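import Mathlib
import Groth.Agent.Lib.Helper5.TorAmp.Dev
import Groth.Agent.S2068

set_option autoImplicit false
universe u
open CategoryTheory Limits MonoidalCategory Pretriangulated DerivedCategory
open CAlg
attribute [local instance] HasDerivedCategory.standard

namespace Groth.Agent.Helper5.TorAmp
open Groth.Agent.Helper5.FlatAcyc
variable {R : Type u} [CommRing R]

/-- `cycles` of a complex of modules as a kernel submodule -/
noncomputable def cyclesIsoKer (P : DRing.Cx R) (i j : ℤ) (hij : i + 1 = j) :
    P.cycles i ≅ ModuleCat.of R (LinearMap.ker (P.d i j).hom) :=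
  (IsLimit.conePointUniqueUpToIso (P.cyclesIsKernel i j (by simp; omega))
    (kernelIsKernel (P.d i j))) ≪≫ ModuleCat.kernelIsoKer _

theorem termwiseFlat_of_finiteProjective {P : DRing.Cx R} (h : DRing.TermwiseFiniteProjective P) :
    DRing.TermwiseFlat P := fun i => by
  have := (h i).2
  infer_instance

/-- top truncation of a bounded above complex of finite projectives, exact above `b` -/
theorem truncLE_finiteProjective (P : DRing.Cx R) (hfp : DRing.TermwiseFiniteProjective P) (c : ℤ)
    (hc : DRing.VanishesAbove P c) (b : ℤ) (hex : ∀ i, b < i → P.ExactAt i) :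
    DRing.TermwiseFiniteProjective (P.truncLE b) := by
  intro i
  rcases lt_trichotomy i b with h1 | h1 | h1
  · obtain ⟨h2, h3⟩ := hfp i
    exact ⟨Module.Finite.equiv (P.truncLEXIso b i h1).symm.toLinearEquiv,
      Module.Projective.of_equiv (P.truncLEXIso b i h1).symm.toLinearEquiv⟩
  · subst h1
    obtain ⟨h2, h3⟩ := Groth.Agent.S2068.ker_proj P hfp c hc i hex (c - i).toNat i le_rfl (by omega)
    let e := P.truncLEXIsoCycles i ≪≫ cyclesIsoKer P i (i + 1) rfl
    exact ⟨Module.Finite.equiv e.symm.toLinearEquiv, Module.Projective.of_equiv e.symm.toLinearEquiv⟩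
  · have : Subsingleton ((P.truncLE b).X i) :=
      ModuleCat.subsingleton_of_isZero ((P.truncLE b).isZero_of_isStrictlyLE b i h1)
    exact ⟨inferInstance, inferInstance⟩

/-- bottom truncation: bounded above finite projective complex with `TorVan a b`. -/
theorem perfAmp_of_torVan {a b : ℤ} (P : DRing.Cx R) (hfp : DRing.TermwiseFiniteProjective P)
    (hb : DRing.VanishesAbove P b) (h : TorVan a b P) :
    ∃ E : DRing.Cx R, DRing.VanishesOutside E a b ∧ DRing.TermwiseFiniteProjective E ∧
      Nonempty (DRing.toD E ≅ DRing.toD P) := by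
  have hflat := termwiseFlat_of_finiteProjective hfp
  have hGE : P.IsGE a := by
    rw [CochainComplex.isGE_iff]
    intro i hi
    exact h.exactAt i (Or.inl hi)
  have hq : QuasiIso (P.πTruncGE a) := inferInstance
  refine ⟨P.truncGE a, ?_, ?_, ⟨(asIso (Q.map (P.πTruncGE a))).symm⟩⟩
  · intro i hi
    rcases hi with hi | hi
    · exact (P.truncGE a).isZero_of_isStrictlyGE a i hi
    · rcases lt_trichotomy i a with h1 | h1 | h1
      · exact (P.truncGE a).isZero_of_isStrictlyGE a i h1
      · subst h1
        exact (isZero_opcycles_of_isZero P i (hb i hi)).of_iso (P.truncGEXIsoOpcycles i)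
      · exact (hb i hi).of_iso (P.truncGEXIso a i h1)
  · intro i
    rcases lt_trichotomy i a with h1 | h1 | h1
    · have : Subsingleton ((P.truncGE a).X i) :=
        ModuleCat.subsingleton_of_isZero ((P.truncGE a).isZero_of_isStrictlyGE a i h1)
      exact ⟨inferInstance, inferInstance⟩
    · subst h1
      have hfl := flat_opcycles P hflat i (h.exactAt _ (Or.inl (by omega)))
        (fun I => h _ _ (Or.inl (by omega)))
      let e := P.truncGEXIsoOpcycles i ≪≫ opcyclesIsoQuotient P (i - 1) i (by omega)
      have hfl' : Module.Flat R (P.X i ⧸ LinearMap.range (P.d (i - 1) i).hom) :=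
        Module.Flat.of_linearEquiv (opcyclesIsoQuotient P (i - 1) i (by omega)).symm.toLinearEquiv
      obtain ⟨h2, h3⟩ := hfp i
      obtain ⟨h4, h5⟩ := hfp (i - 1)
      have : Module.FinitePresentation R (P.X i) := Module.finitePresentation_of_projective _ _
      have hfpres : Module.FinitePresentation R (P.X i ⧸ LinearMap.range (P.d (i - 1) i).hom) := by
        refine Module.finitePresentation_of_surjective
          (LinearMap.range (P.d (i - 1) i).hom).mkQ (Submodule.mkQ_surjective _) ?_
        rw [Submodule.ker_mkQ, LinearMap.range_eq_map]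
        exact Submodule.FG.map _ Module.Finite.fg_top
      have hproj : Module.Projective R (P.X i ⧸ LinearMap.range (P.d (i - 1) i).hom) :=
        Module.Flat.projective_of_finitePresentation
      have hfin : Module.Finite R (P.X i ⧸ LinearMap.range (P.d (i - 1) i).hom) := inferInstance
      exact ⟨Module.Finite.equiv e.symm.toLinearEquiv, Module.Projective.of_equiv e.symm.toLinearEquiv⟩
    · obtain ⟨h2, h3⟩ := hfp i
      exact ⟨Module.Finite.equiv (P.truncGEXIso a i h1).symm.toLinearEquiv,
        Module.Projective.of_equiv (P.truncGEXIso a i h1).symm.toLinearEquiv⟩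

end Groth.Agent.Helper5.TorAmp

namespace Groth.Agent.Helper5.TorAmp
open Groth.Agent.Helper5.FlatAcyc
variable {R : Type u} [CommRing R]

theorem finiteProjective_of_finiteFree {P : DRing.Cx R} (h : DRing.TermwiseFiniteFree P) :
    DRing.TermwiseFiniteProjective P := fun i => by
  obtain ⟨h1, h2⟩ := h i
  exact ⟨h1, inferInstance⟩

/-- bounded above finite projective representative + tor amplitude `[a, b]` ⇒ finite projective
representative in `[a, b]`. -/
theorem perfAmp_of_rep {a b : ℤ} {K : Dual.D R} (F : DRing.Cx R)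
    (hfp : DRing.TermwiseFiniteProjective F) (c : ℤ) (hc : DRing.VanishesAbove F c)
    (e : DRing.toD F ≅ K) (h : DRing.HasTorAmplitudeIn R a b K) :
    ∃ E : DRing.Cx R, DRing.VanishesOutside E a b ∧ DRing.TermwiseFiniteProjective E ∧
      Nonempty (DRing.toD E ≅ K) := by
  have hflat := termwiseFlat_of_finiteProjective hfp
  have hv : TorVan a b F := (hasTorAmplitudeIn_iff' F hflat c hc e a b).1 h
  have hex : ∀ i, b < i → F.ExactAt i := fun i hi => hv.exactAt i (Or.inr hi)
  have hLE : F.IsLE b := by
    rw [CochainComplex.isLE_iff]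
    exact hex
  have hq : QuasiIso (F.ιTruncLE b) := inferInstance
  have hfp' := truncLE_finiteProjective F hfp c hc b hex
  have hb' : DRing.VanishesAbove (F.truncLE b) b := vanishesAbove_of_isStrictlyLE _ b
  have hv' : TorVan a b (F.truncLE b) := by
    rw [TorVan.of_quasiIso (F.ιTruncLE b) hq (termwiseFlat_of_finiteProjective hfp') hflat (max c b)
      (VanishesAbove.mono hb' (le_max_right _ _)) (VanishesAbove.mono hc (le_max_left _ _))]
    exact hv
  obtain ⟨E, h1, h2, ⟨e'⟩⟩ := perfAmp_of_torVan (F.truncLE b) hfp' hb' hv'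
  exact ⟨E, h1, h2, ⟨e' ≪≫ asIso (Q.map (F.ιTruncLE b)) ≪≫ e⟩⟩

theorem perfAmp_of_pc' {a b : ℤ} {K : Dual.D R} (hK : DRing.IsPseudoCoherent' R K)
    (h : DRing.HasTorAmplitudeIn R a b K) :
    ∃ E : DRing.Cx R, DRing.VanishesOutside E a b ∧ DRing.TermwiseFiniteProjective E ∧
      Nonempty (DRing.toD E ≅ K) := by
  obtain ⟨F, c, hc, hff, ⟨e⟩⟩ := hK
  exact perfAmp_of_rep F (finiteProjective_of_finiteFree hff) c hc e h

/-- S6976 -/
theorem s6976 (K : Dual.D R) (hK : DRing.IsPseudoCoherent' R K) (a b : ℤ) :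
    (∃ P : DRing.Cx R, DRing.VanishesOutside P a b ∧ (∀ i : ℤ, Module.Projective R (P.X i)) ∧
        Nonempty (DRing.toD P ≅ K)) ↔ DRing.IsPerfect R K ∧ DRing.HasTorAmplitudeIn R a b K := by
  constructor
  · rintro ⟨P, h1, h2, h3⟩
    have ht : DRing.HasTorAmplitudeIn R a b K :=
      ⟨P, h1, fun i => by have := h2 i; infer_instance, h3⟩
    obtain ⟨E, h4, h5, h6⟩ := perfAmp_of_pc' hK ht
    exact ⟨⟨E, a, b, h4, h5, h6⟩, ht⟩
  · rintro ⟨_, ht⟩
    obtain ⟨E, h4, h5, h6⟩ := perfAmp_of_pc' hK ht
    exact ⟨E, h4, fun i => (h5 i).2, h6⟩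

/-- S6944 -/
theorem s6944 (K : DRing.Cx R) (b : ℤ)
    (hb : DRing.VanishesAbove K b) (hflat : DRing.TermwiseFlat K) (a c : ℤ)
    (hamp : DRing.HasTorAmplitudeIn R a c (DRing.toD K)) :
    Module.Flat R ((K.X a) ⧸ LinearMap.range (K.d (a - 1) a).hom) := by
  have hv := (hasTorAmplitudeIn_iff K hflat b hb a c).1 hamp
  have hfl := flat_opcycles K hflat a (hv.exactAt _ (Or.inl (by omega)))
    (fun I => hv _ _ (Or.inl (by omega)))
  exact Module.Flat.of_linearEquiv (opcyclesIsoQuotient K (a - 1) a (by omega)).symm.toLinearEquiv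

end Groth.Agent.Helper5.TorAmp
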