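import Mathlib
import Groth.Agent.Lib.Helper5.TorAmp.Perf
import Groth.Agent.Lib.Helper5.DRing.PerRes

set_option autoImplicit false
universe u
open CategoryTheory Limits MonoidalCategory Pretriangulated DerivedCategory
attribute [local instance] HasDerivedCategory.standard

namespace Groth.Agent.Helper5.TorAmp
open Groth.Agent.Helper5.FlatAcyc
variable {R : Type u} [CommRing R]

theorem hasTorAmplitudeIn_of_perfect {K : Dual.D R} (h : DRing.IsPerfect R K) :
    DRing.HasFiniteTorDimCx R K := by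
  obtain ⟨E, a, b, h1, h2, h3⟩ := h
  exact ⟨a, b, E, h1, termwiseFlat_of_finiteProjective h2, h3⟩

/-- S6954 -/
theorem s6954 (K : Dual.D R) :
    DRing.IsPerfect R K ↔ DRing.IsPseudoCoherent' R K ∧ DRing.HasFiniteTorDimCx R K := by
  constructor
  · intro h
    exact ⟨Groth.Agent.Helper5.PerRes.pc'_of_perfect K h, hasTorAmplitudeIn_of_perfect h⟩
  · rintro ⟨h1, a, b, h2⟩
    obtain ⟨E, h4, h5, h6⟩ := perfAmp_of_pc' h1 h2
    exact ⟨E, a, b, h4, h5, h6⟩

end Groth.Agent.Helper5.TorAmp
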