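import Mathlib
import Groth.Agent.Lib.Helper5.TorAmp.Perf2

set_option autoImplicit false
universe u
open CategoryTheory Limits MonoidalCategory Pretriangulated DerivedCategory
attribute [local instance] HasDerivedCategory.standard

namespace Groth.Agent.Helper5.TorAmp
open Groth.Agent.Helper5.FlatAcyc Groth.Agent.Helper1.TorL
variable {R : Type u} [CommRing R]

theorem hasTorAmplitudeIn_mono {a b a' b' : ℤ} {K : Dual.D R} (h : DRing.HasTorAmplitudeIn R a b K)
    (ha : a' ≤ a) (hb : b ≤ b') : DRing.HasTorAmplitudeIn R a' b' K := by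
  obtain ⟨E, h1, h2, h3⟩ := h
  exact ⟨E, fun i hi => h1 i (by omega), h2, h3⟩

/-- trimming the upper bound using the t-structure -/
theorem hasTorAmplitudeIn_trim {a b b' : ℤ} {K : Dual.D R} (h : DRing.HasTorAmplitudeIn R a b K)
    [K.IsLE b'] : DRing.HasTorAmplitudeIn R a b' K := by
  obtain ⟨P, hPb, hPproj, hPK, ⟨eP⟩⟩ := exists_proj_rep K b'
  have hPf := termwiseFlat_of_projective P hPproj
  rw [hasTorAmplitudeIn_iff' P hPf b' hPb eP] at h ⊢
  intro M i hi
  rcases hi with hi | hi
  · exact h M i (Or.inl hi)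
  · apply HomologicalComplex.ExactAt.of_isZero
    exact Functor.map_isZero (tensorRight M) (hPb i hi)

theorem hasTorAmplitudeIn_single_of_flat (M : ModuleCat.{u} R) [Module.Flat R M] :
    DRing.HasTorAmplitudeIn R 0 0 ((singleFunctor (ModuleCat.{u} R) 0).obj M) := by
  refine ⟨(CochainComplex.singleFunctor (ModuleCat.{u} R) 0).obj M, ?_, ?_,
    ⟨((singleFunctorIsoCompQ (ModuleCat.{u} R) 0).app M).symm⟩⟩
  · intro i hi
    exact HomologicalComplex.isZero_single_obj_X (ComplexShape.up ℤ) 0 M i (by omega)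
  · intro i
    by_cases hi : i = 0
    · subst hi
      exact Module.Flat.of_linearEquiv
        (HomologicalComplex.singleObjXSelf (ComplexShape.up ℤ) 0 M).toLinearEquiv
    · have : Subsingleton (((CochainComplex.singleFunctor (ModuleCat.{u} R) 0).obj M).X i) :=
        ModuleCat.subsingleton_of_isZero
          (HomologicalComplex.isZero_single_obj_X (ComplexShape.up ℤ) 0 M i hi)
      infer_instance

theorem flat_of_hasTorAmplitudeIn_single (M : ModuleCat.{u} R)
    (h : DRing.HasTorAmplitudeIn R 0 0 ((singleFunctor (ModuleCat.{u} R) 0).obj M)) :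
    Module.Flat R M := by
  obtain ⟨E, h1, h2, ⟨e⟩⟩ := h
  have : E.IsStrictlyGE 0 := by
    rw [CochainComplex.isStrictlyGE_iff]
    exact fun i hi => h1 i (Or.inl hi)
  have : E.IsStrictlyLE 0 := by
    rw [CochainComplex.isStrictlyLE_iff]
    exact fun i hi => h1 i (Or.inr hi)
  obtain ⟨Y, ⟨f⟩⟩ := CochainComplex.exists_iso_single E 0
  have eY : E.X 0 ≅ Y := (HomologicalComplex.eval _ _ 0).mapIso f ≪≫
    HomologicalComplex.singleObjXSelf (ComplexShape.up ℤ) 0 Y
  have e2 : (singleFunctor (ModuleCat.{u} R) 0).obj Y ≅ (singleFunctor (ModuleCat.{u} R) 0).obj M :=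
    (singleFunctorIsoCompQ (ModuleCat.{u} R) 0).app Y ≪≫ Q.mapIso f.symm ≪≫ e
  have e3 : Y ≅ M :=
    ((singleFunctorCompHomologyFunctorIso (ModuleCat.{u} R) 0).app Y).symm ≪≫
      (homologyFunctor (ModuleCat.{u} R) 0).mapIso e2 ≪≫
      (singleFunctorCompHomologyFunctorIso (ModuleCat.{u} R) 0).app M
  have := h2 0
  exact Module.Flat.of_linearEquiv (eY ≪≫ e3).symm.toLinearEquiv

end Groth.Agent.Helper5.TorAmp

namespace Groth.Agent.Helper5.TorAmp
open Groth.Agent.Helper5.FlatAcyc Groth.Agent.Helper1.TorL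
variable {R : Type u} [CommRing R]

/-- the triangle of the free presentation -/
theorem freePres_triangle (M : Type u) [AddCommGroup M] [Module R M] :
    ∃ T : Triangle (Dual.D R), T ∈ distTriang _ ∧
      T.obj₁ = (singleFunctor (ModuleCat.{u} R) 0).obj (freePres (R := R) M).X₁ ∧
      T.obj₂ = (singleFunctor (ModuleCat.{u} R) 0).obj (freePres (R := R) M).X₂ ∧
      T.obj₃ = (singleFunctor (ModuleCat.{u} R) 0).obj (ModuleCat.of R M) :=
  ⟨_, (freePres_shortExact (R := R) M).singleTriangle_distinguished, rfl, rfl, rfl⟩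

theorem key1 : ∀ (d : ℕ) (M : Type u) [AddCommGroup M] [Module R M],
    DRing.HasTorAmplitudeIn R (-(d : ℤ)) 0 (Dual.inD R M) →
      ∀ (N : ModuleCat.{u} R) (p : ℕ), d < p → IsZero (T p (ModuleCat.of R M) N) := by
  intro d
  induction d with
  | zero =>
    intro M _ _ h N p hp
    have : Module.Flat R (ModuleCat.of R M) := flat_of_hasTorAmplitudeIn_single _ (by simpa using h)
    obtain ⟨n, rfl⟩ := Nat.exists_eq_succ_of_ne_zero (by omega : p ≠ 0)
    exact isZero_tor_succ_of_flat _ _ n
  | succ d ih =>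
    intro M _ _ h N p hp
    obtain ⟨T, hT, h1, h2, h3⟩ := freePres_triangle (R := R) M
    have hS := freePres_shortExact (R := R) M
    have hF : DRing.HasTorAmplitudeIn R (-((d + 1 : ℕ) : ℤ) + 1) (0 + 1) T.obj₂ := by
      rw [h2]
      exact hasTorAmplitudeIn_mono (hasTorAmplitudeIn_single_of_flat _) (by push_cast; omega)
        (by omega)
    have hM : DRing.HasTorAmplitudeIn R (-((d + 1 : ℕ) : ℤ)) 0 T.obj₃ := by
      rw [h3]; exact h
    have hZ := (hasTorAmplitudeIn_of_distTriang _ _ T hT).2.2 hF hM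
    rw [h1] at hZ
    have hZ' : DRing.HasTorAmplitudeIn R (-(d : ℤ)) 0
        ((singleFunctor (ModuleCat.{u} R) 0).obj (freePres (R := R) M).X₁) := by
      have := hasTorAmplitudeIn_trim (b' := 0) hZ
      exact hasTorAmplitudeIn_mono this (by push_cast; omega) le_rfl
    obtain ⟨n, rfl⟩ := Nat.exists_eq_succ_of_ne_zero (by omega : p ≠ 0)
    refine isZero_tor_succ_X₃ _ hS N n (isZero_tor_succ_of_flat _ _ n) ?_
    exact ih (freePres (R := R) M).X₁ hZ' N n (by omega)

theorem key2 : ∀ (d : ℕ) (M : Type u) [AddCommGroup M] [Module R M],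
    (∀ (N : ModuleCat.{u} R) (p : ℕ), d < p → IsZero (T p (ModuleCat.of R M) N)) →
      DRing.HasTorAmplitudeIn R (-(d : ℤ)) 0 (Dual.inD R M) := by
  intro d
  induction d with
  | zero =>
    intro M _ _ h
    have : Module.Flat R M := by
      rw [flat_iff_tor_one_quotient]
      intro I _
      exact h _ 1 (by omega)
    have : Module.Flat R (ModuleCat.of R M) := this
    simpa using hasTorAmplitudeIn_single_of_flat (ModuleCat.of R M)
  | succ d ih =>
    intro M _ _ h
    obtain ⟨T, hT, h1, h2, h3⟩ := freePres_triangle (R := R) M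
    have hS := freePres_shortExact (R := R) M
    have hZ : DRing.HasTorAmplitudeIn R (-(d : ℤ)) 0
        ((singleFunctor (ModuleCat.{u} R) 0).obj (freePres (R := R) M).X₁) := by
      apply ih (freePres (R := R) M).X₁
      intro N p hp
      obtain ⟨n, rfl⟩ := Nat.exists_eq_succ_of_ne_zero (by omega : p ≠ 0)
      exact isZero_tor_X₁ _ hS N (n + 1) (h N (n + 1 + 1) (by omega)) (isZero_tor_succ_of_flat _ _ n)
    have hZ' : DRing.HasTorAmplitudeIn R (-((d + 1 : ℕ) : ℤ) + 1) (0 + 1) T.obj₁ := by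
      rw [h1]
      exact hasTorAmplitudeIn_mono hZ (by push_cast; omega) (by omega)
    have hF : DRing.HasTorAmplitudeIn R (-((d + 1 : ℕ) : ℤ)) 0 T.obj₂ := by
      rw [h2]
      exact hasTorAmplitudeIn_mono (hasTorAmplitudeIn_single_of_flat _) (by push_cast; omega) le_rfl
    have := (hasTorAmplitudeIn_of_distTriang _ _ T hT).1 hZ' hF
    rw [h3] at this
    exact this

/-- S6946 -/
theorem s6946 (M : Type u) [AddCommGroup M] [Module R M] (d : ℕ) :
    (DRing.HasTorDimLE R d M ↔ DRing.HasTorAmplitudeIn R (-(d : ℤ)) 0 (Dual.inD R M)) ∧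
      (DRing.HasTorDimLE R 0 M ↔ Module.Flat R M) := by
  have main : ∀ d : ℕ, DRing.HasTorDimLE R d M ↔
      DRing.HasTorAmplitudeIn R (-(d : ℤ)) 0 (Dual.inD R M) := by
    intro d
    constructor
    · intro h
      apply key2
      intro N p hp
      have := h N p hp
      exact ModuleCat.isZero_of_subsingleton _
    · intro h N _ _ p hp
      exact ModuleCat.subsingleton_of_isZero (key1 d M h (ModuleCat.of R N) p hp)
  refine ⟨main d, ?_⟩
  rw [main 0]
  constructor
  · intro h
    exact flat_of_hasTorAmplitudeIn_single (ModuleCat.of R M) (by simpa using h)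
  · intro h
    have : Module.Flat R (ModuleCat.of R M) := h
    simpa using hasTorAmplitudeIn_single_of_flat (ModuleCat.of R M)

end Groth.Agent.Helper5.TorAmp
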