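import Mathlib
import Groth.Agent.Lib.Helper5.TorAmp.TorDim

set_option autoImplicit false
universe u
open CategoryTheory Limits MonoidalCategory Pretriangulated DerivedCategory ZeroObject
attribute [local instance] HasDerivedCategory.standard

namespace Groth.Agent.Helper5.TorAmp
open Groth.Agent.Helper5.FlatAcyc Groth.Agent.Helper1.TorL
variable {A : Type u} [CommRing A]

theorem hasTorAmplitudeIn_of_isZero {K : Dual.D A} (hK : IsZero K) (a b : ℤ) :
    DRing.HasTorAmplitudeIn A a b K := by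
  refine ⟨0, fun i _ => ?_, fun i => ?_, ⟨(Functor.map_isZero Q (isZero_zero _)).iso hK⟩⟩
  · exact (HomologicalComplex.eval _ (ComplexShape.up ℤ) i).map_isZero (isZero_zero _)
  · have : Subsingleton ((0 : DRing.Cx A).X i) := ModuleCat.subsingleton_of_isZero
      ((HomologicalComplex.eval _ (ComplexShape.up ℤ) i).map_isZero (isZero_zero _))
    infer_instance

theorem bounded_of_hasTorAmplitudeIn {K : Dual.D A} {a b : ℤ}
    (h : DRing.HasTorAmplitudeIn A a b K) :
    ∀ i : ℤ, i < a ∨ b < i → Subsingleton (Dual.HD A K i) := by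
  obtain ⟨E, h1, h2, ⟨e⟩⟩ := h
  intro i hi
  apply ModuleCat.subsingleton_of_isZero
  refine IsZero.of_iso ?_ ((homologyFunctor _ i).mapIso e.symm)
  rw [← exactAt_iff_isZero_H]
  exact HomologicalComplex.ExactAt.of_isZero (h1 i hi)

theorem s5612_i (hA : ∀ (M : Type u) [AddCommGroup M] [Module A M], DRing.HasFiniteTorDim A M)
    (K : Dual.D A) :
    DRing.HasFiniteTorDimCx A K ↔
      ∃ a b : ℤ, ∀ i : ℤ, i < a ∨ b < i → Subsingleton (Dual.HD A K i) := by
  constructor
  · rintro ⟨a, b, h⟩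
    exact ⟨a, b, bounded_of_hasTorAmplitudeIn h⟩
  · rintro ⟨a, b, h⟩
    choose d hd using fun i : ℤ => hA (Dual.HD A K i)
    let D : ℕ := (Finset.Icc a b).sup d
    refine ⟨a - D, b, s7033 (a - D) b K ⟨a, b, h⟩ ?_⟩
    intro i
    by_cases hi : a ≤ i ∧ i ≤ b
    · have h1 := ((s6946 (R := A) (Dual.HD A K i) (d i)).1).1 (hd i)
      have hle : d i ≤ D := Finset.le_sup (f := d) (Finset.mem_Icc.2 hi)
      exact hasTorAmplitudeIn_mono h1 (by omega) (by omega)
    · have := h i (by omega)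
      apply hasTorAmplitudeIn_of_isZero
      apply Functor.map_isZero
      exact ModuleCat.isZero_of_subsingleton _

theorem s5612 (hA : ∀ (M : Type u) [AddCommGroup M] [Module A M], DRing.HasFiniteTorDim A M)
    (K : Dual.D A) :
    (DRing.HasFiniteTorDimCx A K ↔
        ∃ a b : ℤ, ∀ i : ℤ, i < a ∨ b < i → Subsingleton (Dual.HD A K i)) ∧
      (DRing.IsPerfect A K ↔
        (∃ a b : ℤ, ∀ i : ℤ, i < a ∨ b < i → Subsingleton (Dual.HD A K i)) ∧
          DRing.IsPseudoCoherent' A K) := by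
  refine ⟨s5612_i hA K, ?_⟩
  rw [s6954, ← s5612_i hA K]
  exact and_comm

end Groth.Agent.Helper5.TorAmp
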