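import Mathlib
import Groth.Agent.Lib.Helper5.TorAmp.FinTor
import Groth.Agent.Lib.Helper5.DRing.DevT2

set_option autoImplicit false
universe u
open CategoryTheory Limits MonoidalCategory Pretriangulated DerivedCategory ZeroObject
attribute [local instance] HasDerivedCategory.standard

namespace Groth.Agent.Helper5.TorAmp
open Groth.Agent.Helper5.FlatAcyc Groth.Agent.Helper1.TorL Groth.Agent.S2067
  Groth.Agent.Helper5.Devissage
variable {A : Type u} [CommRing A]

/-- the brutal truncation triangle `σ_{≥ a+1} E → E → E^a[-a]` for `E` vanishing below `a`. -/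
theorem exists_trunc_triangle (E : CochainComplex (ModuleCat.{u} A) ℤ) (a : ℤ)
    (h1 : ∀ i, i < a → IsZero (E.X i)) :
    ∃ T : Triangle (Dual.D A), T ∈ distTriang _ ∧ T.obj₁ = Q.obj (trunc E (a + 1)) ∧
      T.obj₂ = Q.obj E ∧ Nonempty (T.obj₃ ≅ (singleFunctor (ModuleCat.{u} A) a).obj (E.X a)) := by
  have := mono_truncι E (a + 1)
  let S : ShortComplex (CochainComplex (ModuleCat.{u} A) ℤ) :=
    ShortComplex.mk (truncι E (a + 1)) (cokernel.π (truncι E (a + 1))) (cokernel.condition _)
  have hS : S.ShortExact :=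
    ShortComplex.ShortExact.mk' (ShortComplex.exact_cokernel _) this
      (inferInstanceAs (Epi (cokernel.π (truncι E (a + 1)))))
  have hT := triangleOfSES_distinguished hS
  have hSi : ∀ i, (S.map (HomologicalComplex.eval _ _ i)).ShortExact :=
    fun i => hS.map_of_exact _
  refine ⟨_, hT, rfl, rfl, ?_⟩
  change Nonempty (Q.obj (cokernel (truncι E (a + 1))) ≅ _)
  set Ck := cokernel (truncι E (a + 1)) with hCk
  have hz3 : ∀ i, i ≠ a → IsZero (Ck.X i) := by
    intro i hi
    rcases lt_or_gt_of_ne hi with hi | hi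
    · have : Epi ((S.map (HomologicalComplex.eval _ _ i)).g) := (hSi i).epi_g
      exact @IsZero.of_epi _ _ _ _ _ ((S.map (HomologicalComplex.eval _ _ i)).g) this (h1 i hi)
    · have : IsIso ((S.map (HomologicalComplex.eval _ _ i)).f) :=
        truncι_isIso E (a+1) i (by omega)
      exact (hSi i).isIso_f_iff.1 this
  have : Ck.IsStrictlyGE a := by
    rw [CochainComplex.isStrictlyGE_iff]
    intro i hi
    exact hz3 i (by omega)
  have : Ck.IsStrictlyLE a := by
    rw [CochainComplex.isStrictlyLE_iff]
    intro i hi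
    exact hz3 i (by omega)
  obtain ⟨Y, ⟨e⟩⟩ := CochainComplex.exists_iso_single Ck a
  have ig : IsIso ((S.map (HomologicalComplex.eval _ _ a)).g) :=
    (hSi a).isIso_g_iff.2 (trunc_isZero E (a+1) a (by omega))
  have eY : E.X a ≅ Y :=
    @asIso _ _ _ _ ((S.map (HomologicalComplex.eval _ _ a)).g) ig ≪≫
      (HomologicalComplex.eval _ _ a).mapIso e ≪≫
      HomologicalComplex.singleObjXSelf (ComplexShape.up ℤ) a Y
  exact ⟨((singleFunctor _ a).mapIso eY ≪≫
    (singleFunctorIsoCompQ (ModuleCat.{u} A) a).app Y ≪≫ Q.mapIso e.symm).symm⟩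

end Groth.Agent.Helper5.TorAmp

namespace Groth.Agent.Helper5.TorAmp
open Groth.Agent.Helper5.FlatAcyc Groth.Agent.Helper1.TorL Groth.Agent.S2067
  Groth.Agent.Helper5.Devissage Groth.Agent.Helper5.ConeG
variable {A : Type u} [CommRing A]

/-- `pc'` ⇒ `m`-pseudo-coherent for every `m` -/
theorem pc_of_pc' {K : Dual.D A} (h : DRing.IsPseudoCoherent' A K) (m : ℤ) :
    DRing.IsPseudoCoherent A m K := by
  obtain ⟨E, b, hb, hff, ⟨e⟩⟩ := h
  refine ⟨trunc E m, m, b, Q.map (truncι E m) ≫ e.hom, ?_, trunc_finiteFree E m hff, ?_, ?_⟩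
  · intro i hi
    rcases hi with hi | hi
    · exact trunc_isZero E m i hi
    · have hz : IsZero (E.X i) := hb i hi
      have : Subsingleton (E.X i) := ModuleCat.subsingleton_of_isZero hz
      have : Subsingleton ((trunc E m).X i) := Subtype.val_injective.subsingleton
      exact ModuleCat.isZero_of_subsingleton _
  · intro i hi
    rw [Functor.map_comp]
    have := H_Q_map_isIso _ i (truncι_homology_isIso E m i hi)
    infer_instance
  · rw [Functor.map_comp]
    have := H_Q_map_epi _ m (truncι_homology_epi E m)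
    exact epi_comp _ _

theorem quasiIsoAt_of_isIso_H {K L : CochainComplex (ModuleCat.{u} A) ℤ} (f : K ⟶ L) (i : ℤ)
    (h : IsIso ((homologyFunctor (ModuleCat.{u} A) i).map (Q.map f))) : QuasiIsoAt f i := by
  rw [quasiIsoAt_iff_isIso_homologyMap]
  exact (NatIso.isIso_map_iff (homologyFunctorFactors (ModuleCat.{u} A) i) f).1 h

end Groth.Agent.Helper5.TorAmp

namespace Groth.Agent.Helper5.TorAmp
open Groth.Agent.Helper5.FlatAcyc Groth.Agent.Helper1.TorL Groth.Agent.S2067
  Groth.Agent.Helper5.Devissage Groth.Agent.Helper5.ConeG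
variable {A : Type u} [CommRing A]

/-- a module `X` with `X[-m]` of tor amplitude `[m, B]` is flat -/
theorem flat_of_single (X : ModuleCat.{u} A) (m B : ℤ)
    (h : DRing.HasTorAmplitudeIn A m B ((singleFunctor (ModuleCat.{u} A) m).obj X)) :
    Module.Flat A X := by
  have h1 : DRing.HasTorAmplitudeIn A m m ((singleFunctor (ModuleCat.{u} A) m).obj X) :=
    hasTorAmplitudeIn_trim (b' := m) h
  have h2 := hasTorAmplitudeIn_shift h1 m 0 0 (by omega) (by omega)
  exact flat_of_hasTorAmplitudeIn_single X
    (hasTorAmplitudeIn_of_iso (((singleFunctors (ModuleCat.{u} A)).shiftIso m 0 m (by omega)).app X) h2)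

/-- the hard direction of S5611 -/
theorem perfAmp_of_pc_torAmp (K : Dual.D A) (m n : ℤ)
    (hpc : DRing.IsPseudoCoherent A (m - 1) K) (htor : DRing.HasTorAmplitudeIn A m n K) :
    ∃ E : DRing.Cx A, DRing.VanishesOutside E m n ∧ DRing.TermwiseFiniteProjective E ∧
        Nonempty (DRing.toD E ≅ K) := by
  obtain ⟨E, b', α, hE1, hE2, hEff, hiso, hepi⟩ := exists_trunc_approx K (m - 1) hpc
  have hKLE := isLE_of_hasTorAmplitudeIn htor
  obtain ⟨P, hPb, hPproj, hPK, ⟨eP⟩⟩ := exists_proj_rep K n
  have hEK := kproj_of E b' hE2 hEff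
  obtain ⟨f, hf⟩ := exists_chain_map E P (α ≫ eP.inv)
  have hfq : ∀ i, m ≤ i → QuasiIsoAt f i := by
    intro i hi
    apply quasiIsoAt_of_isIso_H
    rw [hf, Functor.map_comp]
    have := hiso i (by omega)
    infer_instance
  have hPGE : P.IsGE m := by
    rw [CochainComplex.isGE_iff]
    intro i hi
    rw [exactAt_iff_isZero_H]
    have := bounded_of_hasTorAmplitudeIn htor i (Or.inl hi)
    exact (ModuleCat.isZero_of_subsingleton _).of_iso ((homologyFunctor _ i).mapIso eP)
  have hq1 : QuasiIso (CochainComplex.truncGEMap f m) := by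
    rw [CochainComplex.quasiIso_truncGEMap_iff]
    exact hfq
  have hq2 : QuasiIso (P.πTruncGE m) := inferInstance
  set G := E.truncGE m with hG
  let eG : DRing.toD G ≅ K :=
    asIso (Q.map (CochainComplex.truncGEMap f m)) ≪≫ (asIso (Q.map (P.πTruncGE m))).symm ≪≫ eP
  -- terms of G
  have hGlow : ∀ i, i < m → IsZero (G.X i) := fun i hi => G.isZero_of_isStrictlyGE m i hi
  have hGhigh : ∀ i, m < i → (G.X i ≅ E.X i) := fun i hi => E.truncGEXIso m i hi
  have hGm : G.X m ≅ ModuleCat.of A (E.X m ⧸ LinearMap.range (E.d (m - 1) m).hom) :=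
    E.truncGEXIsoOpcycles m ≪≫ opcyclesIsoQuotient E (m - 1) m (by omega)
  have hGb : DRing.VanishesAbove G b' := by
    intro i hi
    rcases lt_trichotomy i m with h1 | h1 | h1
    · exact hGlow i h1
    · subst h1
      exact (isZero_opcycles_of_isZero E i (hE2 i hi)).of_iso (E.truncGEXIsoOpcycles i)
    · exact (hE2 i hi).of_iso (hGhigh i h1)
  -- flatness of G.X m
  have hflatm : Module.Flat A (G.X m) := by
    obtain ⟨T, hT, h1, h2, ⟨e3⟩⟩ := exists_trunc_triangle G m hGlow
    set B := max n b' with hB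
    have t1 : DRing.HasTorAmplitudeIn A (m + 1) (B + 1) T.obj₁ := by
      rw [h1]
      refine ⟨trunc G (m + 1), ?_, ?_, ⟨Iso.refl _⟩⟩
      · intro i hi
        rcases hi with hi | hi
        · exact trunc_isZero G (m + 1) i hi
        · have hz : IsZero (G.X i) := hGb i (by have := le_max_right n b'; omega)
          have : Subsingleton (G.X i) := ModuleCat.subsingleton_of_isZero hz
          have : Subsingleton ((trunc G (m + 1)).X i) := Subtype.val_injective.subsingleton
          exact ModuleCat.isZero_of_subsingleton _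
      · intro i
        by_cases hi : m + 1 ≤ i
        · have := truncι_isIso G (m + 1) i hi
          have : Module.Flat A (E.X i) := by
            obtain ⟨h1, h2⟩ := hEff i
            infer_instance
          exact Module.Flat.of_linearEquiv
            (asIso ((truncι G (m + 1)).f i) ≪≫ hGhigh i (by omega)).toLinearEquiv
        · have : Subsingleton ((trunc G (m + 1)).X i) :=
            ModuleCat.subsingleton_of_isZero (trunc_isZero G (m + 1) i (by omega))
          infer_instance
    have t2 : DRing.HasTorAmplitudeIn A m B T.obj₂ := by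
      rw [h2]
      exact hasTorAmplitudeIn_mono (hasTorAmplitudeIn_of_iso eG.symm htor) le_rfl (le_max_left _ _)
    have t3 := (hasTorAmplitudeIn_of_distTriang m B T hT).1 t1 t2
    exact flat_of_single (G.X m) m B (hasTorAmplitudeIn_of_iso e3 t3)
  -- finite projectivity of the terms of G
  have hGfp : DRing.TermwiseFiniteProjective G := by
    intro i
    rcases lt_trichotomy i m with h1 | h1 | h1
    · have : Subsingleton (G.X i) := ModuleCat.subsingleton_of_isZero (hGlow i h1)
      exact ⟨inferInstance, inferInstance⟩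
    · subst h1
      obtain ⟨h2, h3⟩ := hEff i
      obtain ⟨h4, h5⟩ := hEff (i - 1)
      have : Module.FinitePresentation A (E.X i) := Module.finitePresentation_of_projective _ _
      have hfpres : Module.FinitePresentation A (E.X i ⧸ LinearMap.range (E.d (i - 1) i).hom) := by
        refine Module.finitePresentation_of_surjective
          (LinearMap.range (E.d (i - 1) i).hom).mkQ (Submodule.mkQ_surjective _) ?_
        rw [Submodule.ker_mkQ, LinearMap.range_eq_map]
        exact Submodule.FG.map _ Module.Finite.fg_top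
      have : Module.FinitePresentation A (G.X i) :=
        Module.FinitePresentation.of_equiv hGm.symm.toLinearEquiv
      exact ⟨inferInstance, Module.Flat.projective_of_finitePresentation⟩
    · obtain ⟨h2, h3⟩ := hEff i
      exact ⟨Module.Finite.equiv (hGhigh i h1).symm.toLinearEquiv,
        Module.Projective.of_equiv (hGhigh i h1).symm.toLinearEquiv⟩
  exact perfAmp_of_rep G hGfp b' hGb eG htor

end Groth.Agent.Helper5.TorAmp

namespace Groth.Agent.Helper5.TorAmp
variable {A : Type u} [CommRing A]

/-- S5611 -/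
theorem s5611 (K : Dual.D A) (m n : ℤ) :
    (DRing.IsPseudoCoherent A (m - 1) K ∧ DRing.HasTorAmplitudeIn A m n K) ↔
      ∃ E : DRing.Cx A, DRing.VanishesOutside E m n ∧ DRing.TermwiseFiniteProjective E ∧
        Nonempty (DRing.toD E ≅ K) := by
  constructor
  · rintro ⟨h1, h2⟩
    exact perfAmp_of_pc_torAmp K m n h1 h2
  · rintro ⟨E, h1, h2, h3⟩
    refine ⟨pc_of_pc' (Groth.Agent.Helper5.PerRes.pc'_of_perfect K ⟨E, m, n, h1, h2, h3⟩) _, ?_⟩
    exact ⟨E, h1, termwiseFlat_of_finiteProjective h2, h3⟩

end Groth.Agent.Helper5.TorAmp
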