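import Mathlib
import Groth.Agent.Lib.Helper5.TorAmp.TorDim
import Groth.Agent.Lib.Helper5.TorAmp.Dev
import Groth.Agent.Lib.Helper5.TorAmp.FinTor
import Groth.Agent.Lib.Helper5.DRing.PerfRes2

set_option autoImplicit false
universe u
open CategoryTheory Limits Pretriangulated DerivedCategory
attribute [local instance] HasDerivedCategory.standard

namespace Groth.Agent.Helper5.TorRes
open Groth.Agent.Helper1.TorL TensorProduct Groth.Agent.Helper5.TorAmp
variable {A B : Type u} [CommRing A] [CommRing B] [Algebra A B]

section
variable (N : Type u) [AddCommGroup N] [Module B N] [Module A N] [IsScalarTower A B N]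

theorem lTensor_injective_of_flat [Module.Flat B N] {K F : Type u} [AddCommGroup K] [Module A K]
    [AddCommGroup F] [Module A F] (j : K →ₗ[A] F)
    (h : Function.Injective (j.lTensor B)) : Function.Injective (j.lTensor N) := by
  have h1 : Function.Injective (j.baseChange B) := h
  have h2 : Function.Injective ((j.baseChange B).lTensor N) :=
    Module.Flat.lTensor_preserves_injective_linearMap _ h1
  let eK := TensorProduct.AlgebraTensorModule.cancelBaseChange A B B N K
  let eF := TensorProduct.AlgebraTensorModule.cancelBaseChange A B B N F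
  have hcomm : ∀ x, eF ((j.baseChange B).lTensor N x) = j.lTensor N (eK x) := by
    intro x
    induction x using TensorProduct.induction_on with
    | zero => simp
    | tmul n y =>
      induction y using TensorProduct.induction_on with
      | zero => simp
      | tmul b k => simp [eK, eF]
      | add y y' hy hy' => simp only [TensorProduct.tmul_add, map_add, hy, hy']
    | add x y hx hy => simp only [map_add, hx, hy]
  intro x y hxy
  obtain ⟨x', rfl⟩ := eK.surjective x
  obtain ⟨y', rfl⟩ := eK.surjective y
  rw [← hcomm, ← hcomm] at hxy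
  have := h2 (eF.injective hxy)
  rw [this]

theorem tor_restrict_flat [Module.Flat B N] :
    ∀ (k : ℕ) (Y : Type u) [AddCommGroup Y] [Module A Y],
      IsZero (T (k + 1) (ModuleCat.of A B) (ModuleCat.of A Y)) →
        IsZero (T (k + 1) (ModuleCat.of A N) (ModuleCat.of A Y)) := by
  intro k
  induction k with
  | zero =>
    intro Y _ _ h
    have hS := freePres_shortExact (R := A) Y
    have hj := hS.injective_f
    have hq := hS.surjective_g
    have hjq := (ShortComplex.ShortExact.moduleCat_exact_iff_function_exact _).mp hS.exact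
    rw [isZero_tor_one_iff_lTensor_injective (F := (Y →₀ A)) (freePres (R := A) Y).f.hom
      (freePres (R := A) Y).g.hom hj hq hjq] at h ⊢
    exact lTensor_injective_of_flat N _ h
  | succ k ih =>
    intro Y _ _ h
    have hS := freePres_shortExact (R := A) Y
    have hj := hS.injective_f
    have hq := hS.surjective_g
    have hjq := (ShortComplex.ShortExact.moduleCat_exact_iff_function_exact _).mp hS.exact
    rw [isZero_tor_succ_succ_iff_right (F := (Y →₀ A)) (freePres (R := A) Y).f.hom
      (freePres (R := A) Y).g.hom hj hq hjq] at h ⊢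
    exact ih _ h

end

open Groth.Agent.Helper5.PerfRes

/-- a flat `B`-module has tor dimension `≤ d` over `A` when `B` has -/
theorem torAmp_restrict_flat (d : ℕ) (hB : DRing.HasTorAmplitudeIn A (-(d : ℤ)) 0 (Dual.inD A B))
    (N : ModuleCat.{u} B) [Module.Flat B N] :
    DRing.HasTorAmplitudeIn A (-(d : ℤ)) 0
      (Dual.inD A ((ModuleCat.restrictScalars.{u} (algebraMap A B)).obj N)) := by
  apply key2
  intro Y p hp
  obtain ⟨n, rfl⟩ := Nat.exists_eq_succ_of_ne_zero (by omega : p ≠ 0)
  have h1 := key1 d B hB Y (n + 1) hp
  have : Module.Flat B ((ModuleCat.restrictScalars.{u} (algebraMap A B)).obj N) :=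
    inferInstanceAs (Module.Flat B N)
  exact tor_restrict_flat ((ModuleCat.restrictScalars.{u} (algebraMap A B)).obj N) n Y h1

/-- S6947 -/
theorem s6947 (d : ℕ) (hB : DRing.HasTorAmplitudeIn A (-(d : ℤ)) 0 (Dual.inD A B)) (K : Dual.D B)
    (a b : ℤ) (hK : DRing.HasTorAmplitudeIn B a b K) :
    DRing.HasTorAmplitudeIn A (a - d) b ((DRing.restrictD (algebraMap A B)).obj K) := by
  obtain ⟨E, h1, h2, ⟨e⟩⟩ := hK
  let F := ModuleCat.restrictScalars.{u} (algebraMap A B)
  refine hasTorAmplitudeIn_of_iso ((F.mapDerivedCategoryFactors.app E).symm ≪≫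
    (DRing.restrictD (algebraMap A B)).mapIso e) ?_
  refine s7032 (a - d) b ((F.mapHomologicalComplex (ComplexShape.up ℤ)).obj E) a b ?_ ?_
  · intro i hi
    exact F.map_isZero (h1 i hi)
  · intro i
    by_cases hi : i < a ∨ b < i
    · apply hasTorAmplitudeIn_of_isZero
      exact Functor.map_isZero _ (F.map_isZero (h1 i hi))
    · have := h2 i
      have h3 := torAmp_restrict_flat d hB (E.X i)
      exact hasTorAmplitudeIn_mono h3 (by omega) (by omega)

end Groth.Agent.Helper5.TorRes
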