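import Mathlib
import Groth.Agent.Lib.Helper5.DRing.FlatBC
import Groth.Agent.Lib.Helper5.TorAmp.Rep
import Groth.Agent.Lib.Helper5.TorAmp.FinTor
import Groth.Agent.Lib.Helper5.TorAmp.TorDim
import Groth.Agent.Lib.Helper5.TorAmp.Perf2

set_option autoImplicit false
universe u
open CategoryTheory Limits Pretriangulated DerivedCategory MonoidalCategory
attribute [local instance] HasDerivedCategory.standard

namespace Groth.Agent.Helper5.FlatBC
open Groth.Agent.Helper5.TorAmp Groth.Agent.Helper5.FlatAcyc Groth.Agent.Helper5.PCDev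
variable {R : Type u} [CommRing R] (R' : Type u) [CommRing R'] [Algebra R R']

/-- base change commutes with `- ⊗ M` on complexes -/
noncomputable def tmIso (M : ModuleCat.{u} R) (P : DRing.Cx R) :
    (TM ((Ef R').obj M)).obj ((Ec R').obj P) ≅ (Ec R').obj ((TM M).obj P) :=
  HomologicalComplex.Hom.isoOfComponents
    (fun j => Functor.Monoidal.μIso (Ef R') (P.X j) M)
    (by
      intro i j _
      exact (Functor.LaxMonoidal.μ_natural_left (Ef R') (P.d i j) M).symm)

section flat
variable [Module.Flat R R']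

/-- the induced functor on derived categories -/
noncomputable abbrev Ed : Dual.D R ⥤ Dual.D R' := (Ef R').mapDerivedCategory

/-- `Q` commutes with base change -/
noncomputable def EdQ (K : DRing.Cx R) : (Ed R').obj (DRing.toD K) ≅ DRing.toD ((Ec R').obj K) :=
  (Ef R').mapDerivedCategoryFactors.app K

/-- base change of isomorphic objects -/
noncomputable def EcIso {K L : DRing.Cx R} (e : DRing.toD K ≅ DRing.toD L) :
    DRing.toD ((Ec R').obj K) ≅ DRing.toD ((Ec R').obj L) :=
  (EdQ R' K).symm ≪≫ (Ed R').mapIso e ≪≫ EdQ R' L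

open TensorProduct in
theorem Ef_flat (F : ModuleCat.{u} R) [Module.Flat R F] : Module.Flat R' ((Ef R').obj F) := by
  have h1 : Module.Flat R' (R' ⊗[R] F) := inferInstance
  have h3 : Module.Flat R' (N' R' F) := Module.Flat.of_linearEquiv (eqv R' F).symm
  exact h3

theorem Ec_flat (E : DRing.Cx R) (h : DRing.TermwiseFlat E) : DRing.TermwiseFlat ((Ec R').obj E) :=
  fun i => by
    have := h i
    exact Ef_flat R' (E.X i)

/-- flat base change of tor amplitude (complex level) -/
theorem torAmp_baseChange (K : DRing.Cx R) (a b : ℤ) (h : DRing.HasTorAmplitudeIn R a b (DRing.toD K)) :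
    DRing.HasTorAmplitudeIn R' a b (DRing.toD ((Ec R').obj K)) := by
  obtain ⟨E, h1, h2, ⟨e⟩⟩ := h
  exact ⟨(Ec R').obj E, fun i hi => (Ef R').map_isZero (h1 i hi), Ec_flat R' E h2, ⟨EcIso R' e⟩⟩

open TensorProduct in
/-- S7001 -/
theorem s7001 (d : ℕ) (M : Type u) [AddCommGroup M] [Module R M]
    (hM : DRing.HasTorAmplitudeIn R (-(d : ℤ)) 0 (Dual.inD R M)) :
    DRing.HasTorAmplitudeIn R' (-(d : ℤ)) 0 (Dual.inD R' (R' ⊗[R] M)) := by
  have h1 : DRing.HasTorAmplitudeIn R (-(d : ℤ)) 0 (DRing.toD
      ((HomologicalComplex.single (ModuleCat.{u} R) (ComplexShape.up ℤ) 0).obj (ModuleCat.of R M))) :=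
    hasTorAmplitudeIn_of_iso ((singleFunctorIsoCompQ (ModuleCat.{u} R) 0).app _) hM
  have h2 := torAmp_baseChange R' _ _ _ h1
  refine hasTorAmplitudeIn_of_iso (singleIso R' (ModuleCat.of R M) ≪≫ ?_) h2
  exact (DerivedCategory.singleFunctor (ModuleCat.{u} R') 0).mapIso (eqvT R' M).toModuleIso.symm

end flat

section ff
variable [Module.FaithfullyFlat R R']
open TensorProduct

theorem exactAt_of_bc (X : DRing.Cx R) (i : ℤ) (h : ((Ec R').obj X).ExactAt i) : X.ExactAt i := by
  rw [HomologicalComplex.exactAt_iff_isZero_homology] at h ⊢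
  have h1 : IsZero ((Ef R').obj (X.homology i)) := h.of_iso (homIso R' X i).symm
  have h2' : Subsingleton ((Ef R').obj (X.homology i)) := ModuleCat.subsingleton_of_isZero h1
  have h2 : Subsingleton (N' R' (X.homology i)) := h2'
  have h3 : Subsingleton (R' ⊗[R] (X.homology i)) := (eqv R' (X.homology i)).toEquiv.subsingleton
  have := Module.FaithfullyFlat.lTensor_reflects_triviality R R' (X.homology i)
  exact ModuleCat.isZero_of_subsingleton _

theorem torVan_descent (P : DRing.Cx R) (a b : ℤ) (h : TorVan a b ((Ec R').obj P)) : TorVan a b P := by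
  intro M i hi
  exact exactAt_of_bc R' _ i ((h ((Ef R').obj M) i hi).of_iso (tmIso R' M P))

/-- S6950 -/
theorem s6950 (K : DRing.Cx R) (a b : ℤ)
    (hK : DRing.HasTorAmplitudeIn R' a b (DRing.toD ((Ec R').obj K))) :
    DRing.HasTorAmplitudeIn R a b (DRing.toD K) := by
  have hle : (DRing.toD K).IsLE b := by
    rw [DerivedCategory.isLE_iff]
    intro j hj
    have h1 := bounded_of_hasTorAmplitudeIn hK j (Or.inr hj)
    exact (hom_zero_of_bc R' K j (ModuleCat.isZero_of_subsingleton _)).of_iso
      ((homologyFunctorFactors (ModuleCat.{u} R) j).app K)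
  obtain ⟨P, hPb, hproj, _, ⟨e⟩⟩ := exists_proj_rep (DRing.toD K) b
  have hflat : DRing.TermwiseFlat P := termwiseFlat_of_projective P hproj
  have h2 : DRing.HasTorAmplitudeIn R' a b (DRing.toD ((Ec R').obj P)) :=
    hasTorAmplitudeIn_of_iso (EcIso R' e).symm hK
  have h3 : TorVan a b ((Ec R').obj P) :=
    (hasTorAmplitudeIn_iff _ (Ec_flat R' P hflat) b
      (fun i hi => (Ef R').map_isZero (hPb i hi)) a b).1 h2
  exact (hasTorAmplitudeIn_iff' P hflat b hPb e a b).2 (torVan_descent R' P a b h3)

end ff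

section cover
variable {r : ℕ} (f : Fin r → R) (hf : Ideal.span (Set.range f) = ⊤)

include hf in
theorem torVan_of_loc (P : DRing.Cx R) (a b : ℤ)
    (h : ∀ i, TorVan a b ((Ec (Localization.Away (f i))).obj P)) : TorVan a b P := by
  intro M j hj
  rw [HomologicalComplex.exactAt_iff_isZero_homology]
  refine Groth.Agent.S2087.hom_zero_of_loc f hf _ j (fun i => ?_)
  have h1 := (h i ((Ef (Localization.Away (f i))).obj M) j hj).of_iso
    (tmIso (Localization.Away (f i)) M P)
  rw [HomologicalComplex.exactAt_iff_isZero_homology] at h1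
  exact h1.of_iso ((homologyFunctorFactors (ModuleCat.{u} (Localization.Away (f i))) j).app _)

include hf in
/-- S6949 -/
theorem s6949 (K : DRing.Cx R) (a b : ℤ)
    (hK : ∀ i, DRing.HasTorAmplitudeIn (Localization.Away (f i)) a b
      (DRing.toD ((Ec (Localization.Away (f i))).obj K))) :
    DRing.HasTorAmplitudeIn R a b (DRing.toD K) := by
  have hle : (DRing.toD K).IsLE b := by
    rw [DerivedCategory.isLE_iff]
    intro j hj
    refine (Groth.Agent.S2087.hom_zero_of_loc f hf K j (fun i => ?_)).of_iso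
      ((homologyFunctorFactors (ModuleCat.{u} R) j).app K)
    have h1 := bounded_of_hasTorAmplitudeIn (hK i) j (Or.inr hj)
    exact ModuleCat.isZero_of_subsingleton _
  obtain ⟨P, hPb, hproj, _, ⟨e⟩⟩ := exists_proj_rep (DRing.toD K) b
  have hflat : DRing.TermwiseFlat P := termwiseFlat_of_projective P hproj
  refine (hasTorAmplitudeIn_iff' P hflat b hPb e a b).2 (torVan_of_loc f hf P a b (fun i => ?_))
  have h2 : DRing.HasTorAmplitudeIn (Localization.Away (f i)) a b
      (DRing.toD ((Ec (Localization.Away (f i))).obj P)) :=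
    hasTorAmplitudeIn_of_iso (EcIso (Localization.Away (f i)) e).symm (hK i)
  exact (hasTorAmplitudeIn_iff _ (Ec_flat (Localization.Away (f i)) P hflat) b
    (fun j hj => (Ef (Localization.Away (f i))).map_isZero (hPb j hj)) a b).1 h2


include hf in
/-- S6960 -/
theorem s6960 (K : DRing.Cx R)
    (hK : ∀ i, DRing.IsPerfect (Localization.Away (f i))
      (DRing.toD ((Ec (Localization.Away (f i))).obj K))) :
    DRing.IsPerfect R (DRing.toD K) := by
  classical
  rw [s6954]
  have h1 : ∀ i, DRing.IsPseudoCoherent' (Localization.Away (f i))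
      (DRing.toD ((Ec (Localization.Away (f i))).obj K)) ∧
      DRing.HasFiniteTorDimCx (Localization.Away (f i))
        (DRing.toD ((Ec (Localization.Away (f i))).obj K)) := fun i => (s6954 _).1 (hK i)
  constructor
  · refine Groth.Agent.Helper5.PCBuild.pc'_of_forall_pc _ (fun m => ?_)
    exact Groth.Agent.S2087.result f hf K m (fun i => pc_of_pc' (h1 i).1 m)
  · choose a b hab using fun i => (h1 i).2
    obtain ⟨b', hb'⟩ := Finset.exists_le (Finset.univ.image b)
    obtain ⟨a', ha'⟩ := Finset.exists_le (α := ℤᵒᵈ) (Finset.univ.image (fun i => OrderDual.toDual (a i)))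
    refine ⟨OrderDual.ofDual a', b', s6949 f hf K _ _ (fun i => ?_)⟩
    exact hasTorAmplitudeIn_mono (hab i) (ha' _ (Finset.mem_image_of_mem _ (Finset.mem_univ i)))
      (hb' _ (Finset.mem_image_of_mem _ (Finset.mem_univ i)))

end cover

section ff2
variable [Module.FaithfullyFlat R R']

/-- S6961 -/
theorem s6961 (K : DRing.Cx R)
    (hK : DRing.IsPerfect R' (DRing.toD ((Ec R').obj K))) : DRing.IsPerfect R (DRing.toD K) := by
  rw [s6954] at hK ⊢
  obtain ⟨h1, a, b, h2⟩ := hK
  exact ⟨(s6941 R' K 0).2 h1, a, b, s6950 R' K a b h2⟩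

end ff2

end Groth.Agent.Helper5.FlatBC
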