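import Mathlib

set_option autoImplicit false
universe u
open Polynomial TensorProduct

namespace Groth.Agent.Helper5.PolySES

variable {R : Type u} [CommRing R] {M : Type u} [AddCommGroup M] [Module R M] [Module R[X] M]
  [IsScalarTower R R[X] M]

/-- multiplication by a polynomial, as an `R`-linear endomorphism -/
noncomputable def mulP (p : R[X]) : M →ₗ[R] M := (LinearMap.lsmul R[X] M p).restrictScalars R

@[simp] theorem mulP_apply (p : R[X]) (m : M) : mulP (R := R) p m = p • m := rfl

variable (R M) in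
/-- the map `x ⊗ 1 - 1 ⊗ x` -/
noncomputable def δ : R[X] ⊗[R] M →ₗ[R[X]] R[X] ⊗[R] M :=
  (X : R[X]) • LinearMap.id - LinearMap.baseChange R[X] (mulP (R := R) (M := M) X)

@[simp] theorem δ_tmul (p : R[X]) (m : M) :
    δ R M (p ⊗ₜ m) = (X * p) ⊗ₜ m - p ⊗ₜ ((X : R[X]) • m) := by
  simp [δ, TensorProduct.smul_tmul']

variable (R M) in
/-- the action map -/
noncomputable def π : R[X] ⊗[R] M →ₗ[R[X]] M :=
  LinearMap.liftBaseChange R[X] (LinearMap.id : M →ₗ[R] M)

@[simp] theorem π_tmul (p : R[X]) (m : M) : π R M (p ⊗ₜ m) = p • m := by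
  simp [π]

variable (R M) in
/-- the contracting homotopy, as a bilinear map -/
noncomputable def hB : R[X] →ₗ[R] M →ₗ[R] R[X] ⊗[R] M :=
  (Polynomial.basisMonomials R).constr R (fun i => ∑ j ∈ Finset.range i,
    (TensorProduct.mk R R[X] M (X ^ j)) ∘ₗ mulP (R := R) (M := M) (X ^ (i - (j + 1))))

variable (R M) in
/-- the contracting homotopy -/
noncomputable def h : R[X] ⊗[R] M →ₗ[R] R[X] ⊗[R] M := TensorProduct.lift (hB R M)

theorem h_tmul (i : ℕ) (m : M) :
    h R M ((X ^ i : R[X]) ⊗ₜ m) =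
      ∑ j ∈ Finset.range i, (X ^ j : R[X]) ⊗ₜ[R] ((X ^ (i - (j + 1)) : R[X]) • m) := by
  have : (X ^ i : R[X]) = Polynomial.basisMonomials R i := by
    simp [Polynomial.coe_basisMonomials, Polynomial.X_pow_eq_monomial]
  rw [h, TensorProduct.lift.tmul, hB, this, Module.Basis.constr_basis]
  simp

theorem ext_T {N : Type*} [AddCommGroup N] [Module R N] (f g : R[X] ⊗[R] M →ₗ[R] N)
    (hfg : ∀ (i : ℕ) (m : M), f ((X ^ i : R[X]) ⊗ₜ m) = g ((X ^ i : R[X]) ⊗ₜ m)) : f = g := by
  apply TensorProduct.ext'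
  intro p m
  induction p using Polynomial.induction_on' with
  | add p q hp hq => rw [TensorProduct.add_tmul, map_add, map_add, hp, hq]
  | monomial n a =>
    rw [← Polynomial.smul_X_eq_monomial, ← TensorProduct.smul_tmul', map_smul, map_smul, hfg]

theorem h_δ : (h R M) ∘ₗ (δ R M).restrictScalars R = LinearMap.id := by
  apply ext_T
  intro i m
  simp only [LinearMap.coe_comp, LinearMap.coe_restrictScalars, Function.comp_apply, δ_tmul,
    LinearMap.id_coe, id_eq, map_sub]
  rw [← pow_succ', h_tmul, h_tmul, Finset.sum_range_succ]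
  have : ∀ j ∈ Finset.range i, (X ^ j : R[X]) ⊗ₜ[R] ((X ^ (i - (j + 1)) : R[X]) • (X : R[X]) • m) =
      (X ^ j : R[X]) ⊗ₜ[R] ((X ^ (i + 1 - (j + 1)) : R[X]) • m) := by
    intro j hj
    have hj' : j < i := Finset.mem_range.1 hj
    rw [smul_smul, ← pow_succ]
    congr 3
    omega
  rw [Finset.sum_congr rfl this]
  simp

theorem δ_h (x : R[X] ⊗[R] M) : δ R M (h R M x) + (1 : R[X]) ⊗ₜ[R] (π R M x) = x := by
  have key : (δ R M).restrictScalars R ∘ₗ (h R M) +
      (TensorProduct.mk R R[X] M 1) ∘ₗ (π R M).restrictScalars R = LinearMap.id := by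
    apply ext_T
    intro i m
    simp only [LinearMap.add_apply, LinearMap.coe_comp, LinearMap.coe_restrictScalars,
      Function.comp_apply, π_tmul, TensorProduct.mk_apply, LinearMap.id_coe, id_eq]
    rw [h_tmul, map_sum]
    have : ∀ j ∈ Finset.range i, δ R M ((X ^ j : R[X]) ⊗ₜ[R] ((X ^ (i - (j + 1)) : R[X]) • m)) =
        (X ^ (j + 1) : R[X]) ⊗ₜ[R] ((X ^ (i - (j + 1)) : R[X]) • m) -
          (X ^ j : R[X]) ⊗ₜ[R] ((X ^ (i - j) : R[X]) • m) := by
      intro j hj
      have hj' : j < i := Finset.mem_range.1 hj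
      rw [δ_tmul, smul_smul, ← pow_succ', ← pow_succ']
      congr 4
      omega
    rw [Finset.sum_congr rfl this,
      Finset.sum_range_sub (fun j => (X ^ j : R[X]) ⊗ₜ[R] ((X ^ (i - j) : R[X]) • m))]
    simp
  exact LinearMap.congr_fun key x

theorem δ_injective : Function.Injective (δ R M) := by
  intro x y hxy
  have := LinearMap.congr_fun (h_δ (R := R) (M := M))
  have hx := this x
  have hy := this y
  simp only [LinearMap.coe_comp, LinearMap.coe_restrictScalars, Function.comp_apply,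
    LinearMap.id_coe, id_eq] at hx hy
  rw [← hx, ← hy, hxy]

theorem π_surjective : Function.Surjective (π R M) := fun m => ⟨1 ⊗ₜ m, by simp⟩

theorem π_comp_δ : (π R M) ∘ₗ (δ R M) = 0 := by
  apply TensorProduct.AlgebraTensorModule.ext
  intro p m
  simp [mul_smul, smul_comm p (X : R[X]) m]

theorem exact_δ_π : Function.Exact (δ R M) (π R M) := by
  intro x
  constructor
  · intro hx
    refine ⟨h R M x, ?_⟩
    have := δ_h x
    rw [hx, TensorProduct.tmul_zero, add_zero] at this
    exact this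
  · rintro ⟨y, rfl⟩
    exact LinearMap.congr_fun π_comp_δ y

end Groth.Agent.Helper5.PolySES
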