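import Mathlib
import Groth.Agent.Lib.Helper5.TorAmp.PolySES
import Groth.Agent.Lib.Helper5.TorAmp.BaseChange
import Groth.Agent.Lib.Helper5.TorAmp.TorRes

set_option autoImplicit false
universe u
open CategoryTheory Limits Pretriangulated DerivedCategory Polynomial TensorProduct
attribute [local instance] HasDerivedCategory.standard

namespace Groth.Agent.Helper5.PolyTor
open Groth.Agent.Helper5.PolySES Groth.Agent.Helper5.TorAmp Groth.Agent.Helper5.FlatBC

variable {R : Type u} [CommRing R]

/-- tor dimension over `R[X]` is at most one more than over `R` -/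
theorem torAmp_poly (d : ℕ) (M : Type u) [AddCommGroup M] [Module R M] [Module R[X] M]
    [IsScalarTower R R[X] M]
    (hM : DRing.HasTorAmplitudeIn R (-(d : ℤ)) 0 (Dual.inD R M)) :
    DRing.HasTorAmplitudeIn R[X] (-((d + 1 : ℕ) : ℤ)) 0 (Dual.inD R[X] M) := by
  have h1 : DRing.HasTorAmplitudeIn R[X] (-(d : ℤ)) 0 (Dual.inD R[X] (R[X] ⊗[R] M)) :=
    s7001 R[X] d M hM
  let S : ShortComplex (ModuleCat.{u} R[X]) :=
    ShortComplex.mk (X₁ := ModuleCat.of R[X] (R[X] ⊗[R] M)) (X₂ := ModuleCat.of R[X] (R[X] ⊗[R] M))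
      (X₃ := ModuleCat.of R[X] M) (ModuleCat.ofHom (δ R M)) (ModuleCat.ofHom (π R M)) (by
        rw [← ModuleCat.ofHom_comp, π_comp_δ]; rfl)
  have hS : S.ShortExact := ModuleCat.shortComplex_shortExact S exact_δ_π δ_injective π_surjective
  have hT := hS.singleTriangle_distinguished
  have := (hasTorAmplitudeIn_of_distTriang (-((d + 1 : ℕ) : ℤ)) 0 _ hT).1
    (hasTorAmplitudeIn_mono h1 (by push_cast; omega) (by omega))
    (hasTorAmplitudeIn_mono h1 (by push_cast; omega) (by omega))
  exact this

section transport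
variable {P Q : Type u} [CommRing P] [CommRing Q]

/-- restriction along a ring isomorphism preserves tor amplitude -/
theorem torAmp_restrict_equiv (e : P ≃+* Q) (K : Dual.D Q) (a b : ℤ)
    (h : DRing.HasTorAmplitudeIn Q a b K) :
    DRing.HasTorAmplitudeIn P a b ((DRing.restrictD e.toRingHom).obj K) := by
  letI := e.toRingHom.toAlgebra
  have hflat : Module.Flat P Q :=
    Module.Flat.of_linearEquiv (LinearEquiv.ofBijective (Algebra.linearMap P Q) e.bijective).symm
  have : Module.Flat P (ModuleCat.of P Q) := hflat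
  have hB : DRing.HasTorAmplitudeIn P (-((0 : ℕ) : ℤ)) 0 (Dual.inD P Q) := by
    simpa using hasTorAmplitudeIn_single_of_flat (ModuleCat.of P Q)
  have := Groth.Agent.Helper5.TorRes.s6947 0 hB K a b h
  rw [Nat.cast_zero, sub_zero] at this
  exact this

/-- module-level transport along a ring isomorphism -/
theorem torAmp_of_restrict_equiv (e : P ≃+* Q) (M : ModuleCat.{u} Q) (a b : ℤ)
    (h : DRing.HasTorAmplitudeIn P a b
      ((singleFunctor (ModuleCat.{u} P) 0).obj ((ModuleCat.restrictScalars.{u} e.toRingHom).obj M))) :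
    DRing.HasTorAmplitudeIn Q a b ((singleFunctor (ModuleCat.{u} Q) 0).obj M) := by
  have h1 := torAmp_restrict_equiv e.symm _ a b h
  have i1 := Groth.Agent.Helper5.PCHom.restrictDSingle e.symm.toRingHom
    ((ModuleCat.restrictScalars.{u} e.toRingHom).obj M)
  have i2 : (ModuleCat.restrictScalars.{u} e.symm.toRingHom).obj
      ((ModuleCat.restrictScalars.{u} e.toRingHom).obj M) ≅ M :=
    (ModuleCat.restrictScalarsComp'App e.symm.toRingHom e.toRingHom (RingHom.id Q)
      (by ext x; simp) M).symm ≪≫ ModuleCat.restrictScalarsId'App (RingHom.id Q) rfl M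
  exact hasTorAmplitudeIn_of_iso (i1 ≪≫ (singleFunctor (ModuleCat.{u} Q) 0).mapIso i2) h1

end transport

section mv

theorem finSucc_symm_C_C {S : Type u} [CommRing S] (k : ℕ) (s : S) :
    (MvPolynomial.finSuccEquiv S k).symm (Polynomial.C (MvPolynomial.C s)) = MvPolynomial.C s := by
  rw [AlgEquiv.symm_apply_eq]
  simp [MvPolynomial.finSuccEquiv_apply]

theorem torAmp_poly' {P : Type u} [CommRing P] (d : ℕ) (N : ModuleCat.{u} P[X])
    (h : DRing.HasTorAmplitudeIn P (-(d : ℤ)) 0 ((singleFunctor (ModuleCat.{u} P) 0).obj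
      ((ModuleCat.restrictScalars.{u} (Polynomial.C : P →+* P[X])).obj N))) :
    DRing.HasTorAmplitudeIn P[X] (-((d + 1 : ℕ) : ℤ)) 0
      ((singleFunctor (ModuleCat.{u} P[X]) 0).obj N) := by
  have h' := @torAmp_poly P _ d ((ModuleCat.restrictScalars.{u} (Polynomial.C : P →+* P[X])).obj N)
    _ _ (inferInstanceAs (Module P[X] N)) (IsScalarTower.of_algebraMap_smul (fun _ _ => rfl)) h
  exact h'

theorem torAmp_mv : ∀ (k : ℕ) (S : Type u) [CommRing S] (d : ℕ)
    (M : ModuleCat.{u} (MvPolynomial (Fin k) S)),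
    DRing.HasTorAmplitudeIn S (-(d : ℤ)) 0 ((singleFunctor (ModuleCat.{u} S) 0).obj
      ((ModuleCat.restrictScalars.{u} (MvPolynomial.C : S →+* MvPolynomial (Fin k) S)).obj M)) →
    DRing.HasTorAmplitudeIn (MvPolynomial (Fin k) S) (-((d + k : ℕ) : ℤ)) 0
      ((singleFunctor (ModuleCat.{u} (MvPolynomial (Fin k) S)) 0).obj M) := by
  intro k
  induction k with
  | zero =>
    intro S _ d M h
    have he : (MvPolynomial.isEmptyRingEquiv S (Fin 0)).symm.toRingHom = MvPolynomial.C :=
      MvPolynomial.isEmptyRingEquiv_symm_toRingHom S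
    rw [← he] at h
    simpa using torAmp_of_restrict_equiv _ M _ _ h
  | succ k ih =>
    intro S _ d M h
    let er : (MvPolynomial (Fin k) S)[X] ≃+* MvPolynomial (Fin (k + 1)) S :=
      (MvPolynomial.finSuccEquiv S k).symm.toRingEquiv
    let M' := (ModuleCat.restrictScalars.{u} er.toRingHom).obj M
    let M'' := (ModuleCat.restrictScalars.{u}
      (Polynomial.C : MvPolynomial (Fin k) S →+* (MvPolynomial (Fin k) S)[X])).obj M'
    have hC : (MvPolynomial.C : S →+* MvPolynomial (Fin (k + 1)) S) =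
        (er.toRingHom.comp Polynomial.C).comp MvPolynomial.C := by
      ext s
      simp [er, finSucc_symm_C_C]
    have i1 : (ModuleCat.restrictScalars.{u} (MvPolynomial.C : S →+* MvPolynomial (Fin (k + 1)) S)).obj M ≅
        (ModuleCat.restrictScalars.{u} (MvPolynomial.C : S →+* MvPolynomial (Fin k) S)).obj M'' :=
      ModuleCat.restrictScalarsComp'App (MvPolynomial.C : S →+* MvPolynomial (Fin k) S)
        (er.toRingHom.comp Polynomial.C) (MvPolynomial.C : S →+* MvPolynomial (Fin (k + 1)) S) hC M ≪≫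
        (ModuleCat.restrictScalars.{u} (MvPolynomial.C : S →+* MvPolynomial (Fin k) S)).mapIso
          (ModuleCat.restrictScalarsComp'App
            (Polynomial.C : MvPolynomial (Fin k) S →+* (MvPolynomial (Fin k) S)[X]) er.toRingHom
            (er.toRingHom.comp Polynomial.C) rfl M)
    have h1 := ih S d M'' (hasTorAmplitudeIn_of_iso
      ((singleFunctor (ModuleCat.{u} S) 0).mapIso i1) h)
    have h2 := torAmp_poly' (d + k) M' h1
    have h3 := torAmp_of_restrict_equiv er M _ _ h2
    exact h3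

end mv

end Groth.Agent.Helper5.PolyTor
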