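import Mathlib
import Groth.Agent.Lib.Helper5.TorAmp.PolyTor
import Groth.Agent.Lib.Helper5.TorAmp.Perf2
import Groth.Prelude.Def_MoreMor

set_option autoImplicit false
universe u
open CategoryTheory Limits Pretriangulated DerivedCategory
attribute [local instance] HasDerivedCategory.standard

namespace Groth.Agent.Helper5.PerfHom
open Groth.Agent.Helper5.TorAmp Groth.Agent.Helper5.PolyTor

variable {A B : Type u} [CommRing A] [CommRing B] [Algebra A B]

/-- the two `A`-module structures on `B` agree -/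
noncomputable def resLin {n : ℕ} (φ : MvPolynomial (Fin n) A →ₐ[A] B) :
    letI := φ.toRingHom.toAlgebra
    ↑((ModuleCat.restrictScalars.{u} (MvPolynomial.C : A →+* MvPolynomial (Fin n) A)).obj
      (ModuleCat.of (MvPolynomial (Fin n) A) B)) ≃ₗ[A] B :=
  letI := φ.toRingHom.toAlgebra
  AddEquiv.toLinearEquiv
    (M := ↑((ModuleCat.restrictScalars.{u} (MvPolynomial.C : A →+* MvPolynomial (Fin n) A)).obj
      (ModuleCat.of (MvPolynomial (Fin n) A) B))) (M₂ := B) (by rfl)
    (fun a x => by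
      show φ (MvPolynomial.C a) * (show B from x) = a • (show B from x)
      rw [← MvPolynomial.algebraMap_eq, φ.commutes, Algebra.smul_def])

/-- iso in `D(A)` comparing the two structures -/
noncomputable def resIso {n : ℕ} (φ : MvPolynomial (Fin n) A →ₐ[A] B) :
    letI := φ.toRingHom.toAlgebra
    (singleFunctor (ModuleCat.{u} A) 0).obj
      ((ModuleCat.restrictScalars.{u} (MvPolynomial.C : A →+* MvPolynomial (Fin n) A)).obj
        (ModuleCat.of (MvPolynomial (Fin n) A) B)) ≅ Dual.inD A B :=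
  letI := φ.toRingHom.toAlgebra
  (singleFunctor (ModuleCat.{u} A) 0).mapIso (resLin φ).toModuleIso

theorem finTorDim_iff (M : Type u) [AddCommGroup M] [Module A M] :
    DRing.HasFiniteTorDim A M ↔ DRing.HasFiniteTorDimCx A (Dual.inD A M) := by
  constructor
  · rintro ⟨d, hd⟩
    exact ⟨-(d : ℤ), 0, ((s6946 M d).1).1 hd⟩
  · rintro ⟨a, b, h⟩
    have h1 : DRing.HasTorAmplitudeIn A a 0 (Dual.inD A M) := hasTorAmplitudeIn_trim (b' := 0) h
    refine ⟨(-a).toNat, ((s6946 M (-a).toNat).1).2 (hasTorAmplitudeIn_mono h1 ?_ le_rfl)⟩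
    have := Int.self_le_toNat (-a)
    omega

/-- S7066 -/
theorem s7066 (A B : Type u) [CommRing A] [CommRing B] [Algebra A B] :
    MoreMor.IsPerfectHom A B ↔
      ∃ (n : ℕ) (φ : MvPolynomial (Fin n) A →ₐ[A] B), Function.Surjective φ ∧
        letI := φ.toRingHom.toAlgebra
        DRing.IsPerfectModule (MvPolynomial (Fin n) A) B := by
  constructor
  · rintro ⟨⟨n, φ, hφ, hpc⟩, hfin⟩
    refine ⟨n, φ, hφ, ?_⟩
    letI := φ.toRingHom.toAlgebra
    obtain ⟨d, hd⟩ := hfin
    have h1 : DRing.HasTorAmplitudeIn A (-(d : ℤ)) 0 (Dual.inD A B) := ((s6946 B d).1).1 hd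
    have h2 := torAmp_mv n A d (ModuleCat.of (MvPolynomial (Fin n) A) B)
      (hasTorAmplitudeIn_of_iso (resIso φ).symm h1)
    exact (s6954 _).2 ⟨hpc, _, _, h2⟩
  · rintro ⟨n, φ, hφ, hperf⟩
    letI := φ.toRingHom.toAlgebra
    have hperf' : DRing.IsPerfect (MvPolynomial (Fin n) A)
        (Dual.inD (MvPolynomial (Fin n) A) B) := hperf
    refine ⟨⟨n, φ, hφ, Groth.Agent.Helper5.PerRes.pc'_of_perfect _ hperf'⟩, ?_⟩
    obtain ⟨a, b, hab⟩ := hasTorAmplitudeIn_of_perfect hperf'
    have : Module.Flat A (ModuleCat.of A (MvPolynomial (Fin n) A)) :=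
      inferInstanceAs (Module.Flat A (MvPolynomial (Fin n) A))
    have hB : DRing.HasTorAmplitudeIn A (-((0 : ℕ) : ℤ)) 0 (Dual.inD A (MvPolynomial (Fin n) A)) := by
      simpa using hasTorAmplitudeIn_single_of_flat (ModuleCat.of A (MvPolynomial (Fin n) A))
    have h1 := Groth.Agent.Helper5.TorRes.s6947 0 hB _ a b hab
    rw [Nat.cast_zero, sub_zero] at h1
    have i1 := Groth.Agent.Helper5.PCHom.restrictDSingle
      (algebraMap A (MvPolynomial (Fin n) A)) (ModuleCat.of (MvPolynomial (Fin n) A) B)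
    have h2 : DRing.HasTorAmplitudeIn A a b (Dual.inD A B) :=
      hasTorAmplitudeIn_of_iso (i1 ≪≫ resIso φ) h1
    exact (finTorDim_iff B).2 ⟨a, b, h2⟩

end Groth.Agent.Helper5.PerfHom
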