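import Mathlib
import Groth.Agent.Lib.Helper5.TorAmp.Rep

set_option autoImplicit false
universe u
open CategoryTheory Limits MonoidalCategory Pretriangulated DerivedCategory
attribute [local instance] HasDerivedCategory.standard

namespace Groth.Agent.Helper5.TorAmp
open Groth.Agent.Helper5.FlatAcyc Groth.Agent.Helper5.PRes Groth.Agent.Helper5.ConeG

variable {R : Type u} [CommRing R]

attribute [local instance] preservesBinaryBiproducts_of_preservesBiproducts in
theorem hasTorAmplitudeIn_of_biprod (a b : ℤ) (K L : Dual.D R) [HasBinaryBiproduct K L]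
    (h : DRing.HasTorAmplitudeIn R a b (K ⊞ L)) :
    DRing.HasTorAmplitudeIn R a b K ∧ DRing.HasTorAmplitudeIn R a b L := by
  have hX : (K ⊞ L).IsLE b := isLE_of_hasTorAmplitudeIn h
  have hK : K.IsLE b := isLE_of_retract (X := K ⊞ L) biprod.inl biprod.fst (by simp) b
  have hL : L.IsLE b := isLE_of_retract (X := K ⊞ L) biprod.inr biprod.snd (by simp) b
  obtain ⟨P, hPb, hPproj, hPK, ⟨eP⟩⟩ := exists_proj_rep K b
  obtain ⟨P', hP'b, hP'proj, hP'K, ⟨eP'⟩⟩ := exists_proj_rep L b
  have hPf := termwiseFlat_of_projective P hPproj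
  have hP'f := termwiseFlat_of_projective P' hP'proj
  have e : DRing.toD (P ⊞ P') ≅ K ⊞ L := Q.mapBiprod P P' ≪≫ biprod.mapIso eP eP'
  have hv := (hasTorAmplitudeIn_iff' (P ⊞ P') (flat_biprod P P' hPf hP'f) b
    (vanishesAbove_biprod P P' b hPb hP'b) e a b).1 h
  constructor
  · rw [hasTorAmplitudeIn_iff' P hPf b hPb eP a b]
    exact TorVan.of_retract biprod.inl biprod.fst (by simp) hv
  · rw [hasTorAmplitudeIn_iff' P' hP'f b hP'b eP' a b]
    exact TorVan.of_retract biprod.inr biprod.snd (by simp) hv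

end Groth.Agent.Helper5.TorAmp
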