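import Mathlib
import Groth.Agent.Lib.Helper5.TorAmp.BaseChange
import Groth.Agent.Lib.Helper5.DRing.PerfRes

set_option autoImplicit false
universe u
open CategoryTheory Limits DerivedCategory TensorProduct
attribute [local instance] HasDerivedCategory.standard

namespace Groth.Agent.Helper5.FlatBC
open Groth.Agent.Helper5.TorAmp

variable {R : Type u} [CommRing R] (R' : Type u) [CommRing R'] [Algebra R R']

theorem Ef_fproj (F : ModuleCat.{u} R) [Module.Finite R F] [Module.Projective R F] :
    Module.Finite R' ((Ef R').obj F) ∧ Module.Projective R' ((Ef R').obj F) := by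
  have h1 : Module.Finite R' (R' ⊗[R] F) := inferInstance
  have h2 : Module.Projective R' (R' ⊗[R] F) := inferInstance
  have e := eqv R' F
  have h3 : Module.Finite R' (N' R' F) := Module.Finite.equiv e
  have h4 : Module.Projective R' (N' R' F) := Module.Projective.of_equiv e
  exact ⟨h3, h4⟩

variable [Module.Flat R R']

theorem perfect_baseChange (K : DRing.Cx R) (h : DRing.IsPerfect R (DRing.toD K)) :
    DRing.IsPerfect R' (DRing.toD ((Ec R').obj K)) := by
  obtain ⟨E, a, b, h1, h2, ⟨e⟩⟩ := h
  refine ⟨(Ec R').obj E, a, b, fun i hi => (Ef R').map_isZero (h1 i hi), fun i => ?_, ⟨EcIso R' e⟩⟩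
  obtain ⟨h3, h4⟩ := h2 i
  exact Ef_fproj R' (E.X i)

/-- S6958 -/
theorem s6958 (M : Type u) [AddCommGroup M] [Module R M] (hM : DRing.IsPerfectModule R M) :
    DRing.IsPerfectModule R' (R' ⊗[R] M) := by
  have h1 : DRing.IsPerfect R (DRing.toD
      ((HomologicalComplex.single (ModuleCat.{u} R) (ComplexShape.up ℤ) 0).obj (ModuleCat.of R M))) :=
    Groth.Agent.Helper5.PerfRes.perfect_of_iso ((singleFunctorIsoCompQ (ModuleCat.{u} R) 0).app _) hM
  have h2 := perfect_baseChange R' _ h1
  refine Groth.Agent.Helper5.PerfRes.perfect_of_iso (singleIso R' (ModuleCat.of R M) ≪≫ ?_) h2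
  exact (DerivedCategory.singleFunctor (ModuleCat.{u} R') 0).mapIso (eqvT R' M).toModuleIso.symm

end Groth.Agent.Helper5.FlatBC
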